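import Cfsg.Agent.G2Orders80.Basic
import Cfsg.Agent.Lib.ChevCore.RankOneHom

/-!
Rank one subgroups of the group of type G2 and triangularisation in products of two of them.
-/

set_option autoImplicit false

namespace Cfsg.Agent.G2Orders80

open Cfsg.Lie Cfsg.Agent.ChevGroup Cfsg.Agent.ChevCore Matrix

universe u v

/-- the negative of a root -/
def negR (s : Rt) : Rt := ⟨11 - s.val, by omega⟩

theorem negR_val : ∀ s : Rt, chevG2.neg s.val = (negR s).val := by decide +kernel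

theorem cfv_negR : ∀ s : Rt, cfv (negR s) = -cfv s := by decide +kernel

theorem negR_neg (s : Rt) : (TypeG2.model.S.neg s : Rt) = negR s := rfl

variable {F : Type u} [Field F]

theorem chi_negR {t : Grp F} (ht : t ∈ (R F).H) (s : Rt) : χ t (negR s) = (χ t s)⁻¹ := by
  rw [chi_eq ⟨t, ht⟩, chi_eq ⟨t, ht⟩, cfv_negR, ev2_neg, Units.val_inv_eq_inv_val]

theorem chi_ne_zero {t : Grp F} (ht : t ∈ (R F).H) (s : Rt) : χ t s ≠ 0 :=
  ChevTori.chi_ne_zero TypeG2.model uGoodG2 ht s

theorem chi_mul {t t' : Grp F} (ht : t ∈ (R F).H) (ht' : t' ∈ (R F).H) (s : Rt) :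
    χ (t * t') s = χ t s * χ t' s := ChevTori.chi_mul TypeG2.model uGoodG2 ht ht' s

theorem X_zero (s : Rt) : (X s 0 : Grp F) = 1 := (R F).x_zero s

theorem X_add (s : Rt) (c d : F) : (X s (c + d) : Grp F) = X s c * X s d := (R F).x_add s c d

theorem X_neg (s : Rt) (c : F) : (X s (-c) : Grp F) = (X s c)⁻¹ := (R F).x_neg s c

theorem pairRel_X (s : Rt) :
    PairRel (fun t : F => (X s t : Grp F)) (fun t : F => X (negR s) t) := by
  have hs : s.val < chevG2.nroots := s.isLt
  have P := uGoodG2.toCommGood.toGood.pairRel_root (F := F) hs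
  rw [negR_val] at P
  have e : ∀ c, ((pn (fun t : F => (X s t : Grp F)) (fun t : F => X (negR s) t) c : Grp F) :
      GL chevG2.Idx F) = pn (fun t => xg chevG2 F s.val t) (fun t => xg chevG2 F (negR s).val t) c := by
    intro c
    simp only [pn, Subgroup.coe_mul, val_X]
  have e' : ∀ c, ((ph (fun t : F => (X s t : Grp F)) (fun t : F => X (negR s) t) c : Grp F) :
      GL chevG2.Idx F) = ph (fun t => xg chevG2 F s.val t) (fun t => xg chevG2 F (negR s).val t) c := by
    intro c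
    simp only [ph, Subgroup.coe_mul, e]
  exact
    { x_add := fun a b => Subtype.ext (by simp only [Subgroup.coe_mul, val_X]; exact P.x_add a b)
      y_add := fun a b => Subtype.ext (by simp only [Subgroup.coe_mul, val_X]; exact P.y_add a b)
      h_mul := fun a b ha hb => Subtype.ext (by
        simp only [Subgroup.coe_mul, e']; exact P.h_mul a b ha hb)
      h_x := fun a t ha => Subtype.ext (by
        simp only [Subgroup.coe_mul, Subgroup.coe_inv, e', val_X]; exact P.h_x a t ha)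
      h_y := fun a t ha => Subtype.ext (by
        simp only [Subgroup.coe_mul, Subgroup.coe_inv, e', val_X]; exact P.h_y a t ha)
      n_x := fun t => Subtype.ext (by
        simp only [Subgroup.coe_mul, Subgroup.coe_inv, e, val_X]; exact P.n_x t) }

/-- special linear group of degree two -/
abbrev SL2 (F : Type u) [Field F] : Type u := Matrix.SpecialLinearGroup (Fin 2) F

/-- the homomorphism onto a rank one subgroup -/
noncomputable def phi (s : Rt) : SL2 F →* Grp F :=
  Classical.choose (exists_sl_hom (pairRel_X (F := F) s))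

theorem phi_U (s : Rt) (t : F) : phi s (slU t) = X s t :=
  (Classical.choose_spec (exists_sl_hom (pairRel_X (F := F) s))).1 t

theorem phi_L (s : Rt) (t : F) : phi s (slL t) = X (negR s) t :=
  (Classical.choose_spec (exists_sl_hom (pairRel_X (F := F) s))).2.1 t

theorem hom_ext_sl {G : Type*} [Group G] {f g : SL2 F →* G} (hU : ∀ t, f (slU t) = g (slU t))
    (hL : ∀ t, f (slL t) = g (slL t)) : f = g := by
  refine MonoidHom.ext fun B => ?_
  exact MonoidHom.eqOn_closure (f := f) (g := g)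
    (by rintro _ (⟨t, rfl⟩ | ⟨t, rfl⟩) <;> [exact hU t; exact hL t]) (sl_generated B)

theorem phi_ph (s : Rt) (a : F) : phi s (ph slU slL a) = (R F).hr s a := by
  simp only [ph, pn, map_mul, phi_U, phi_L]
  rfl

/-- conjugation by `diag(c, 1)` -/
def dconj (c : F) (hc : c ≠ 0) : SL2 F →* SL2 F where
  toFun B := ⟨!![B.1 0 0, c * B.1 0 1; c⁻¹ * B.1 1 0, B.1 1 1], by
    rw [Matrix.det_fin_two_of]
    have := B.2
    rw [Matrix.det_fin_two] at this
    field_simp
    linear_combination this⟩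
  map_one' := by
    refine Subtype.ext (Matrix.ext fun i j => ?_)
    fin_cases i <;> fin_cases j <;> simp
  map_mul' A B := by
    refine Subtype.ext ?_
    show !![(A * B).1 0 0, c * (A * B).1 0 1; c⁻¹ * (A * B).1 1 0, (A * B).1 1 1] =
      !![A.1 0 0, c * A.1 0 1; c⁻¹ * A.1 1 0, A.1 1 1] *
        !![B.1 0 0, c * B.1 0 1; c⁻¹ * B.1 1 0, B.1 1 1]
    refine Matrix.ext fun i j => ?_
    fin_cases i <;> fin_cases j <;>
      simp [Matrix.SpecialLinearGroup.coe_mul, Matrix.mul_apply, Fin.sum_univ_two] <;>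
      field_simp <;> ring

theorem coe_dconj (c : F) (hc : c ≠ 0) (B : SL2 F) :
    (dconj c hc B : Matrix (Fin 2) (Fin 2) F) =
      !![B.1 0 0, c * B.1 0 1; c⁻¹ * B.1 1 0, B.1 1 1] := rfl

theorem phi_conj {t : Grp F} (ht : t ∈ (R F).H) (s : Rt) (B : SL2 F) :
    t * phi s B * t⁻¹ = phi s (dconj (χ t s) (chi_ne_zero ht s) B) := by
  have h : (MulAut.conj t).toMonoidHom.comp (phi s) = (phi s).comp (dconj (χ t s) (chi_ne_zero ht s)) := by
    refine hom_ext_sl (fun u => ?_) (fun u => ?_)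
    · have e : dconj (χ t s) (chi_ne_zero ht s) (slU u) = slU (χ t s * u) :=
        Subtype.ext (by rw [coe_dconj, coe_slU]; ext i j; fin_cases i <;> fin_cases j <;> simp [coe_slU])
      show t * phi s (slU u) * t⁻¹ = phi s (dconj (χ t s) (chi_ne_zero ht s) (slU u))
      rw [e, phi_U, phi_U, conj_X ht]
    · have e : dconj (χ t s) (chi_ne_zero ht s) (slL u) = slL ((χ t s)⁻¹ * u) :=
        Subtype.ext (by rw [coe_dconj, coe_slL]; ext i j; fin_cases i <;> fin_cases j <;> simp [coe_slL])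
      show t * phi s (slL u) * t⁻¹ = phi s (dconj (χ t s) (chi_ne_zero ht s) (slL u))
      rw [e, phi_L, phi_L, conj_X ht, chi_negR ht]
  exact congrArg (fun f => f B) h

theorem phi_mul_H {t : Grp F} (ht : t ∈ (R F).H) (s : Rt) (B : SL2 F) :
    phi s B * t = t * phi s (dconj (χ t s)⁻¹ (inv_ne_zero (chi_ne_zero ht s)) B) := by
  have h := phi_conj ht s (dconj (χ t s)⁻¹ (inv_ne_zero (chi_ne_zero ht s)) B)
  have e : dconj (χ t s) (chi_ne_zero ht s) (dconj (χ t s)⁻¹ (inv_ne_zero (chi_ne_zero ht s)) B) = B := by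
    refine Subtype.ext ?_
    rw [coe_dconj]
    have h0 := chi_ne_zero ht s
    ext i j
    fin_cases i <;> fin_cases j <;> simp [coe_dconj, h0]
  rw [e] at h
  rw [← h]; group

section map

variable {L : Type v} [Field L] (i : F →+* L)

theorem gmap_phi (s : Rt) (B : SL2 F) :
    gmap i (phi s B) = phi s (Matrix.SpecialLinearGroup.map i B) := by
  have h : (gmap i).comp (phi s) = (phi s).comp (Matrix.SpecialLinearGroup.map i) := by
    refine hom_ext_sl (fun u => ?_) (fun u => ?_)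
    · have e : Matrix.SpecialLinearGroup.map i (slU u) = slU (i u) := Subtype.ext (by
        ext a b; fin_cases a <;> fin_cases b <;> simp [coe_slU])
      show gmap i (phi s (slU u)) = phi s (Matrix.SpecialLinearGroup.map i (slU u))
      rw [e, phi_U, phi_U, gmap_X]
    · have e : Matrix.SpecialLinearGroup.map i (slL u) = slL (i u) := Subtype.ext (by
        ext a b; fin_cases a <;> fin_cases b <;> simp [coe_slL])
      show gmap i (phi s (slL u)) = phi s (Matrix.SpecialLinearGroup.map i (slL u))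
      rw [e, phi_L, phi_L, gmap_X]
  exact congrArg (fun f => f B) h

end map

theorem orth_comm_cert : ∀ P ∈ orthPairs, ∀ r ∈ [P.1, negR P.1], ∀ s ∈ [P.2, negR P.2],
    chevG2.commTerms (r : Rt).val (s : Rt).val = [] ∧ (s : Rt).val ≠ (r : Rt).val ∧
      (s : Rt).val ≠ chevG2.neg (r : Rt).val := by
  decide +kernel

theorem X_comm {P : Rt × Rt} (hP : P ∈ orthPairs) {r s : Rt} (hr : r ∈ [P.1, negR P.1])
    (hs : s ∈ [P.2, negR P.2]) (c d : F) : (X r c : Grp F) * X s d = X s d * X r c := by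
  obtain ⟨h0, h1, h2⟩ := orth_comm_cert P hP r hr s hs
  have h := uGoodG2.toCommGood.xg_comm (F := F) (r := r.val) (s := s.val) r.isLt s.isLt h1 h2 c d
  rw [ChevalleyDatum.commWord, h0, List.map_nil, show wordG chevG2 F [] = 1 from rfl, mul_one] at h
  exact Subtype.ext (by rw [Subgroup.coe_mul, Subgroup.coe_mul, val_X, val_X]; exact h.symm)

theorem phi_comm {P : Rt × Rt} (hP : P ∈ orthPairs) (B C : SL2 F) :
    phi P.1 B * phi P.2 C = phi P.2 C * phi P.1 B := by
  have h1 : ∀ r ∈ [P.1, negR P.1], ∀ c, ∀ C : SL2 F, (X r c : Grp F) * phi P.2 C = phi P.2 C * X r c := by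
    intro r hr c C
    have h : (MulAut.conj (X r c : Grp F)).toMonoidHom.comp (phi P.2) = phi P.2 := by
      refine hom_ext_sl (fun u => ?_) (fun u => ?_)
      · show X r c * phi P.2 (slU u) * (X r c)⁻¹ = phi P.2 (slU u)
        rw [phi_U, X_comm hP hr (by simp) c u]; group
      · show X r c * phi P.2 (slL u) * (X r c)⁻¹ = phi P.2 (slL u)
        rw [phi_L, X_comm hP hr (by simp) c u]; group
    exact mul_inv_eq_iff_eq_mul.1 (congrArg (fun f => f C) h)
  have h : (MulAut.conj (phi P.2 C)).toMonoidHom.comp (phi P.1) = phi P.1 := by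
    refine hom_ext_sl (fun u => ?_) (fun u => ?_)
    · show phi P.2 C * phi P.1 (slU u) * (phi P.2 C)⁻¹ = phi P.1 (slU u)
      rw [phi_U, ← h1 _ (by simp) u C]; group
    · show phi P.2 C * phi P.1 (slL u) * (phi P.2 C)⁻¹ = phi P.1 (slL u)
      rw [phi_L, ← h1 _ (by simp) u C]; group
  exact (mul_inv_eq_iff_eq_mul.1 (congrArg (fun f => f B) h)).symm

/-- `H` times the two rank one subgroups of an orthogonal pair. -/
noncomputable def M2 {P : Rt × Rt} (hP : P ∈ orthPairs) : Subgroup (Grp F) where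
  carrier := {g | ∃ t ∈ (R F).H, ∃ B C, g = t * phi P.1 B * phi P.2 C}
  one_mem' := ⟨1, one_mem _, 1, 1, by simp⟩
  mul_mem' := by
    rintro _ _ ⟨t, ht, B, C, rfl⟩ ⟨t', ht', B', C', rfl⟩
    refine ⟨t * t', mul_mem ht ht',
      dconj (χ t' P.1)⁻¹ (inv_ne_zero (chi_ne_zero ht' _)) B * B',
      dconj (χ t' P.2)⁻¹ (inv_ne_zero (chi_ne_zero ht' _)) C * C', ?_⟩
    rw [map_mul, map_mul,
      show t * phi P.1 B * phi P.2 C * (t' * phi P.1 B' * phi P.2 C') =
        t * phi P.1 B * (phi P.2 C * t') * phi P.1 B' * phi P.2 C' by group,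
      phi_mul_H ht' P.2 C]
    set C1 := dconj (χ t' P.2)⁻¹ (inv_ne_zero (chi_ne_zero ht' _)) C
    rw [show t * phi P.1 B * (t' * phi P.2 C1) * phi P.1 B' * phi P.2 C' =
        t * (phi P.1 B * t') * (phi P.2 C1 * phi P.1 B') * phi P.2 C' by group,
      phi_mul_H ht' P.1 B, ← phi_comm hP B' C1]
    group
  inv_mem' := by
    rintro _ ⟨t, ht, B, C, rfl⟩
    refine ⟨t⁻¹, inv_mem ht, dconj (χ t P.1) (chi_ne_zero ht _) B⁻¹,
      dconj (χ t P.2) (chi_ne_zero ht _) C⁻¹, ?_⟩
    rw [← phi_conj ht, ← phi_conj ht, _root_.mul_inv_rev, _root_.mul_inv_rev, map_inv, map_inv]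
    have h := phi_comm (F := F) hP B⁻¹ C⁻¹
    rw [map_inv, map_inv] at h
    rw [← mul_assoc (phi P.2 C)⁻¹, ← h]
    group

theorem H_le_M2 {P : Rt × Rt} (hP : P ∈ orthPairs) {t : Grp F} (ht : t ∈ (R F).H) : t ∈ M2 hP :=
  ⟨t, ht, 1, 1, by simp⟩

theorem X_fst_mem_M2 {P : Rt × Rt} (hP : P ∈ orthPairs) (c : F) :
    (X P.1 c : Grp F) ∈ M2 hP ∧ (X (negR P.1) c : Grp F) ∈ M2 hP :=
  ⟨⟨1, one_mem _, slU c, 1, by simp [phi_U]⟩, ⟨1, one_mem _, slL c, 1, by simp [phi_L]⟩⟩

theorem X_snd_mem_M2 {P : Rt × Rt} (hP : P ∈ orthPairs) (c : F) :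
    (X P.2 c : Grp F) ∈ M2 hP ∧ (X (negR P.2) c : Grp F) ∈ M2 hP :=
  ⟨⟨1, one_mem _, 1, slU c, by simp [phi_U]⟩, ⟨1, one_mem _, 1, slL c, by simp [phi_L]⟩⟩

/-- triangularisation in a rank one group -/
theorem exists_triangular {c : F} (hc : c ≠ 0) (B : SL2 F)
    (hroot : B.1 1 0 = 0 ∨ ∃ x, B.1 1 0 * x ^ 2 + (B.1 1 1 - c * B.1 0 0) * x - c * B.1 0 1 = 0) :
    ∃ A : SL2 F, ∃ a b : F, a ≠ 0 ∧
      dconj c⁻¹ (inv_ne_zero hc) A⁻¹ * B * A = ph slU slL a * slU b := by
  have key : ∀ P : SL2 F, P.1 1 0 = 0 → ∃ a b : F, a ≠ 0 ∧ P = ph slU slL a * slU b := by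
    intro P h10
    have hdet := P.2
    rw [Matrix.det_fin_two, h10, mul_zero, sub_zero] at hdet
    have h00 : P.1 0 0 ≠ 0 := left_ne_zero_of_mul_eq_one hdet
    have h11 : P.1 1 1 = (P.1 0 0)⁻¹ := eq_inv_of_mul_eq_one_right hdet
    refine ⟨P.1 0 0, P.1 0 1 / P.1 0 0, h00, Subtype.ext ?_⟩
    rw [Matrix.SpecialLinearGroup.coe_mul, ph_sl h00, coe_slU]
    ext i j
    fin_cases i <;> fin_cases j <;> simp [Matrix.mul_apply, Fin.sum_univ_two, h10, h11]
    field_simp
  by_cases h0 : B.1 1 0 = 0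
  · obtain ⟨a, b, ha, e⟩ := key B h0
    exact ⟨1, a, b, ha, by rw [inv_one, map_one, one_mul, mul_one]; exact e⟩
  obtain ⟨x, hx⟩ := hroot.resolve_left h0
  let A : SL2 F := ⟨!![x, -1; 1, 0], by simp [Matrix.det_fin_two]⟩
  obtain ⟨a, b, ha, e⟩ := key (dconj c⁻¹ (inv_ne_zero hc) A⁻¹ * B * A) (by
    rw [Matrix.SpecialLinearGroup.coe_mul, Matrix.SpecialLinearGroup.coe_mul, coe_dconj,
      Matrix.SpecialLinearGroup.coe_inv]
    simp [A, Matrix.mul_apply, Matrix.vecMul, dotProduct, Fin.sum_univ_two, Matrix.adjugate_fin_two]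
    linear_combination hx)
  exact ⟨A, a, b, ha, e⟩

/-- remove a root element that does not commute with the torus part -/
theorem exists_clean {h : Grp F} (hh : h ∈ (R F).H) (s : Rt) (c : F) :
    ∃ e c' : F, (c' = 0 ∨ χ h s = 1) ∧ X s e * (h * X s c) * (X s e)⁻¹ = h * X s c' := by
  by_cases hk : χ h s = 1
  · exact ⟨0, c, Or.inr hk, by rw [X_zero]; group⟩
  have h0 := chi_ne_zero hh s
  refine ⟨c * χ h s / (χ h s - 1), 0, Or.inl rfl, ?_⟩
  set e := c * χ h s / (χ h s - 1) with he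
  have h1 : X s e * h = h * X s ((χ h s)⁻¹ * e) := by
    have := conj_X hh s ((χ h s)⁻¹ * e)
    rw [← mul_assoc, mul_inv_cancel₀ h0, one_mul] at this
    rw [← this]; group
  rw [← mul_assoc, h1, mul_assoc h, mul_assoc h, ← X_neg, ← X_add, ← X_add,
    show (χ h s)⁻¹ * e + c + -e = 0 by
      have : χ h s - 1 ≠ 0 := sub_ne_zero.2 hk
      rw [he]; field_simp; ring]

end Cfsg.Agent.G2Orders80
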