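import Cfsg.Agent.G2Orders80.Basic
import Mathlib.GroupTheory.Sylow

/-!
Elements of prime power order of the group of type G2 are conjugate into small monomial subgroups.
-/

set_option autoImplicit false

namespace Cfsg.Agent.G2Orders80

open Cfsg.Lie Cfsg.Agent.ChevGroup
open Cfsg.Agent.ChevCore (actw_eq_self_of_H nw_conj_mem_H nw_inv_eq)

universe u

section generic

variable {G : Type*} [Group G]

/-- A prime power element is conjugate into every subgroup of index prime to that prime. -/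
theorem exists_conj_mem [Finite G] (K : Subgroup G) {r k N : ℕ} (hr : r.Prime)
    (hN : Nat.card G = Nat.card K * N) (hrN : ¬ r ∣ N) {g : G} (hg : g ^ r ^ k = 1) :
    ∃ y : G, y * g * y⁻¹ ∈ K := by
  haveI := Fact.mk hr
  obtain ⟨P₀⟩ := (inferInstance : Nonempty (Sylow r K))
  obtain ⟨Q, hQle⟩ := (P₀.2.map K.subtype).exists_le_sylow
  have hQK : (Q : Subgroup G) ≤ K := by
    have hcard : Nat.card (P₀.1.map K.subtype) = Nat.card Q := by
      rw [Subgroup.card_map_of_injective Subtype.coe_injective, Sylow.card_eq_multiplicity,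
        Sylow.card_eq_multiplicity, hN,
        Nat.factorization_mul Nat.card_pos.ne' (show N ≠ 0 by rintro rfl; exact hrN (dvd_zero r)),
        Finsupp.add_apply, Nat.factorization_eq_zero_of_not_dvd hrN, add_zero]
    rw [← Subgroup.eq_of_le_of_card_ge hQle hcard.ge]
    rintro _ ⟨y, -, rfl⟩
    exact y.2
  obtain ⟨j, -, hj⟩ := (Nat.dvd_prime_pow hr).1 (orderOf_dvd_of_pow_eq_one hg)
  have hgp : IsPGroup r (Subgroup.zpowers g) :=
    IsPGroup.of_card (n := j) (by rw [Nat.card_zpowers, hj])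
  obtain ⟨S, hS⟩ := hgp.exists_le_sylow
  obtain ⟨y, hy⟩ := MulAction.exists_smul_eq G S Q
  refine ⟨y, hQK ?_⟩
  rw [← hy]
  exact ⟨g, hS (Subgroup.mem_zpowers _), rfl⟩

/-- Adjoining a normalising element of prime order modulo a subgroup. -/
theorem prime_mul_card_dvd [Finite G] (K : Subgroup G) {n : G} {r : ℕ} (hr : r.Prime)
    (hn : ∀ k ∈ K, n * k * n⁻¹ ∈ K) (hnK : n ∉ K) (hnr : n ^ r ∈ K) :
    r * Nat.card K ∣ Nat.card ↥(K ⊔ Subgroup.zpowers n) := by
  haveI := Fact.mk hr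
  set M := K ⊔ Subgroup.zpowers n
  have hKM : K ≤ M := le_sup_left
  have hN : M ≤ Subgroup.normalizer (K : Set G) := by
    refine sup_le Subgroup.le_normalizer ?_
    rw [Subgroup.zpowers_le, Subgroup.mem_normalizer_iff]
    intro k
    refine ⟨hn k, fun h => ?_⟩
    obtain ⟨m, hm, he⟩ : ∃ m ∈ K, n * m * n⁻¹ = n * k * n⁻¹ := by
      let φ : K → K := fun x => ⟨n * x.1 * n⁻¹, hn _ x.2⟩
      have hφ : Function.Surjective φ := (Finite.injective_iff_surjective).1 fun a b e =>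
        Subtype.ext (mul_left_cancel (mul_right_cancel (congrArg Subtype.val e)))
      obtain ⟨x, hx⟩ := hφ ⟨_, h⟩
      exact ⟨x.1, x.2, congrArg Subtype.val hx⟩
    rwa [← mul_left_cancel (mul_right_cancel he)]
  haveI : (K.subgroupOf M).Normal := Subgroup.normal_subgroupOf_of_le_normalizer hN
  let a : M ⧸ K.subgroupOf M :=
    QuotientGroup.mk (⟨n, le_sup_right (a := K) (Subgroup.mem_zpowers n)⟩ : M)
  have ha : orderOf a = r := by
    refine orderOf_eq_prime ?_ ?_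
    · exact (QuotientGroup.eq_one_iff _).2 (Subgroup.mem_subgroupOf.2 hnr)
    · intro h
      exact hnK (Subgroup.mem_subgroupOf.1 ((QuotientGroup.eq_one_iff _).1 h))
  have h1 : r ∣ (K.subgroupOf M).index := by
    rw [Subgroup.index, ← ha]
    exact orderOf_dvd_natCard a
  rw [← Subgroup.card_mul_index (K.subgroupOf M),
    Nat.card_congr (Subgroup.subgroupOfEquivOfLe hKM).toEquiv, mul_comm r]
  exact mul_dvd_mul_left _ h1

end generic

theorem index_factor (Q : ℕ) (hQ : 1 ≤ Q) :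
    Q ^ 6 * (Q ^ 2 - 1) * (Q ^ 6 - 1) =
      (Q - 1) ^ 2 * (Q ^ 6 * ((Q + 1) * (Q ^ 5 + Q ^ 4 + Q ^ 3 + Q ^ 2 + Q + 1))) := by
  obtain ⟨m, rfl⟩ := Nat.exists_eq_add_of_le hQ
  rw [add_tsub_cancel_left]
  have e2 : (1 + m) ^ 2 - 1 = m * ((1 + m) + 1) := Nat.sub_eq_of_eq_add (by ring)
  have e6 : (1 + m) ^ 6 - 1 = m * ((1 + m) ^ 5 + (1 + m) ^ 4 + (1 + m) ^ 3 + (1 + m) ^ 2 + (1 + m) + 1) :=
    Nat.sub_eq_of_eq_add (by ring)
  rw [e2, e6]
  ring

theorem not_dvd_index {Q r : ℕ} (hr : r.Prime) (hr5 : 5 ≤ r) (h : (Q : ZMod r) = 1) :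
    ¬ r ∣ Q ^ 6 * ((Q + 1) * (Q ^ 5 + Q ^ 4 + Q ^ 3 + Q ^ 2 + Q + 1)) := by
  intro hd
  rw [← ZMod.natCast_eq_zero_iff] at hd
  push_cast at hd
  rw [h] at hd
  norm_num at hd
  have h12 : ((12 : ℕ) : ZMod r) = 0 := by exact_mod_cast hd
  rw [ZMod.natCast_eq_zero_iff] at h12
  have := Nat.le_of_dvd (by norm_num) h12
  interval_cases r <;> first | omega | norm_num at hr

theorem exists_index_four {Q : ℕ} (h : Q % 4 = 1) : ∃ N, ¬ 2 ∣ N ∧
    Q ^ 6 * ((Q + 1) * (Q ^ 5 + Q ^ 4 + Q ^ 3 + Q ^ 2 + Q + 1)) = 4 * N := by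
  obtain ⟨m, rfl⟩ : ∃ m, Q = 4 * m + 1 := ⟨Q / 4, by omega⟩
  refine ⟨(4 * m + 1) ^ 6 * ((2 * m + 1) *
    (512 * m ^ 5 + 768 * m ^ 4 + 480 * m ^ 3 + 160 * m ^ 2 + 30 * m + 3)), ?_, by ring⟩
  rw [← even_iff_two_dvd, Nat.even_mul, Nat.even_mul, Nat.even_pow]
  simp [Nat.even_add, Nat.even_mul, show ¬ Even 3 by decide, show Even 512 by decide,
    show Even 768 by decide, show Even 480 by decide, show Even 160 by decide,
    show Even 30 by decide, show Even 4 by decide, show Even 2 by decide]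

theorem exists_index_three {Q : ℕ} (h : Q % 9 = 1) : ∃ N, ¬ 3 ∣ N ∧
    Q ^ 6 * ((Q + 1) * (Q ^ 5 + Q ^ 4 + Q ^ 3 + Q ^ 2 + Q + 1)) = 3 * N := by
  obtain ⟨m, rfl⟩ : ∃ m, Q = 9 * m + 1 := ⟨Q / 9, by omega⟩
  refine ⟨(9 * m + 1) ^ 6 * ((9 * m + 2) *
    (19683 * m ^ 5 + 13122 * m ^ 4 + 3645 * m ^ 3 + 540 * m ^ 2 + 45 * m + 2)), ?_, by ring⟩
  intro hd
  rw [← ZMod.natCast_eq_zero_iff] at hd
  push_cast at hd
  have h3 : (3 : ZMod 3) = 0 := by decide
  have h9 : (9 : ZMod 3) = 0 := by decide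
  have e1 : (19683 : ZMod 3) = 0 := by decide
  have e2 : (13122 : ZMod 3) = 0 := by decide
  have e3 : (3645 : ZMod 3) = 0 := by decide
  have e4 : (540 : ZMod 3) = 0 := by decide
  have e5 : (45 : ZMod 3) = 0 := by decide
  simp only [h9, e1, e2, e3, e4, e5, zero_mul, zero_add, one_pow, one_mul] at hd
  exact absurd hd (by decide)

variable {F : Type u} [Field F] [Fintype F]

theorem card_group_split : Nat.card (Grp F) = Nat.card ↥(R F).H *
    (Fintype.card F ^ 6 * ((Fintype.card F + 1) * (Fintype.card F ^ 5 + Fintype.card F ^ 4 +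
      Fintype.card F ^ 3 + Fintype.card F ^ 2 + Fintype.card F + 1))) := by
  rw [card_group, card_H, index_factor _ Fintype.card_pos]

/-- Prime order elements, the prime at least five, are conjugate into the torus. -/
theorem conj_H_of_prime {r : ℕ} (hr : r.Prime) (hr5 : 5 ≤ r) (hQ : (Fintype.card F : ZMod r) = 1)
    {g : Grp F} (hg : g ^ r = 1) : ∃ y : Grp F, y * g * y⁻¹ ∈ (R F).H :=
  exists_conj_mem _ hr card_group_split (not_dvd_index hr hr5 hQ) (k := 1) (by rwa [pow_one])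

omit [Fintype F] in
theorem act_id_of_mem_H {w : List Si} (h : (nwG w : Grp F) ∈ (R F).H) (s : Rt) : wact w s = s :=
  (actw_eq w s).symm.trans (actw_eq_self_of_H (TypeG2.model.shapeR _)
    (fun r t => TypeG2.model.x_ne _ r t) ((R F).H_le_B h) s)

omit [Fintype F] in
theorem nw_conj_H (w : List Si) {t : Grp F} (ht : t ∈ (R F).H) :
    (nwG w : Grp F) * t * ((nwG w : Grp F))⁻¹ ∈ (R F).H :=
  nw_conj_mem_H (R F) w ht

omit [Fintype F] in
theorem nw_pow (w : List Si) : ∀ j : ℕ,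
    (nwG w : Grp F) ^ j = nwG (List.replicate j w).flatten
  | 0 => rfl
  | j + 1 => by
    rw [pow_succ', nw_pow w j, List.replicate_succ, List.flatten_cons, nwG_append]

/-- The monomial subgroup with a four group on top. -/
noncomputable def K4 : Subgroup (Grp F) :=
  ((R F).H ⊔ Subgroup.zpowers ((nwG (reflWord 7) : Grp F))) ⊔ Subgroup.zpowers ((nwG (reflWord 11) : Grp F))

/-- The monomial subgroup with a three cycle on top. -/
noncomputable def K3 : Subgroup (Grp F) := (R F).H ⊔ Subgroup.zpowers ((nwG [0, 1, 0, 1] : Grp F))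

theorem refl_perm_facts :
    (∃ s : Rt, wact (reflWord 7) s ≠ s) ∧
    (∃ s : Rt, wact (reflWord 11) s ≠ s) ∧
    (∀ s : Rt, wact (reflWord 7 ++ reflWord 7) s = s) ∧
    (∀ s : Rt, wact (reflWord 11 ++ reflWord 11) s = s) ∧
    (∀ s : Rt, wact (reflWord 11 ++ (reflWord 7 ++ (reflWord 11).reverse ++ (reflWord 7).reverse)) s = s) ∧
    (∃ s : Rt, wact (reflWord 7 ++ reflWord 11) s ≠ s) ∧
    (∃ s : Rt, wact [0, 1, 0, 1] s ≠ s) ∧
    (∀ s : Rt, wact [0, 1, 0, 1, 0, 1, 0, 1, 0, 1, 0, 1] s = s) := by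
  decide +kernel

omit [Fintype F] in
theorem nw_div_mem_H {w v : List Si} (h : ∀ s, wact w s = wact v s) :
    (nwG w : Grp F) * ((nwG v : Grp F))⁻¹ ∈ (R F).H := by
  obtain ⟨k, hk, e⟩ := nw_inv_eq (R F) v
  have h1 : (nwG (w ++ v.reverse) : Grp F) ∈ (R F).H := nw_mem_H fun s => by
    rw [wact_append, h]
    exact ((actw_eq v _).symm.trans (congrArg _ (actw_eq v.reverse s).symm)).trans
      (TypeG2.model.S.actw_reverse v s)
  have h2 : (nwG w : Grp F) * k * ((nwG w : Grp F))⁻¹ * (nwG (w ++ v.reverse) : Grp F) ∈ (R F).H :=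
    mul_mem (nw_conj_H w hk) h1
  have e2 : (nwG w : Grp F) * ((nwG v : Grp F))⁻¹ =
      (nwG w : Grp F) * k * ((nwG w : Grp F))⁻¹ * (nwG (w ++ v.reverse) : Grp F) := by
    rw [nwG_append, show ((nwG v : Grp F))⁻¹ = k * nwG v.reverse from e]; group
  rw [e2]
  exact h2

theorem four_mul_card_dvd : 4 * Nat.card ↥(R F).H ∣ Nat.card ↥(K4 (F := F)) := by
  obtain ⟨⟨s₁, h1⟩, ⟨s₂, h2⟩, h11, h22, hc, ⟨s₃, h3⟩, -, -⟩ := refl_perm_facts
  set a := (nwG (reflWord 7) : Grp F) with ha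
  set c := (nwG (reflWord 11) : Grp F) with hc'
  have haH : a ∉ (R F).H := fun h => h1 (act_id_of_mem_H h s₁)
  have ha2 : a ^ 2 ∈ (R F).H := by
    rw [pow_two, ha, ← nwG_append]; exact nw_mem_H h11
  have hc2 : c ^ 2 ∈ (R F).H := by
    rw [pow_two, hc', ← nwG_append]; exact nw_mem_H h22
  set K1 := (R F).H ⊔ Subgroup.zpowers a with hK1
  have d1 := prime_mul_card_dvd (R F).H Nat.prime_two (fun k hk => nw_conj_H _ hk) haH ha2
  have hK1' : ∀ k ∈ K1, ∃ z ∈ (R F).H, k = z ∨ k = z * a := by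
    intro k hk
    rw [hK1, Subgroup.zpowers_eq_closure, ← Subgroup.closure_eq (R F).H, ← Subgroup.closure_union] at hk
    have hsq : ∀ z ∈ (R F).H, a * z * a = (a * z * a⁻¹) * a ^ 2 := fun z _ => by rw [pow_two]; group
    induction hk using Subgroup.closure_induction'' with
    | mem g hg =>
      rcases hg with hg | hg
      · exact ⟨g, hg, Or.inl rfl⟩
      · rw [Set.mem_singleton_iff] at hg; subst hg
        exact ⟨1, one_mem _, Or.inr (one_mul _).symm⟩
    | inv_mem g hg =>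
      rcases hg with hg | hg
      · exact ⟨g⁻¹, inv_mem hg, Or.inl rfl⟩
      · rw [Set.mem_singleton_iff] at hg; subst hg
        exact ⟨(a ^ 2)⁻¹, inv_mem ha2, Or.inr (by rw [pow_two]; group)⟩
    | one => exact ⟨1, one_mem _, Or.inl rfl⟩
    | mul x y _ _ hx hy =>
      obtain ⟨z, hz, e | e⟩ := hx <;> obtain ⟨w, hw, e' | e'⟩ := hy <;> simp only [e, e']
      · exact ⟨_, mul_mem hz hw, Or.inl rfl⟩
      · exact ⟨_, mul_mem hz hw, Or.inr (mul_assoc _ _ _).symm⟩
      · exact ⟨z * (a * w * a⁻¹), mul_mem hz (nw_conj_H _ hw), Or.inr (by group)⟩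
      · exact ⟨z * (a * w * a⁻¹) * a ^ 2, mul_mem (mul_mem hz (nw_conj_H _ hw)) ha2,
          Or.inl (by rw [pow_two]; group)⟩
  have hcn : ∀ k ∈ K1, c * k * c⁻¹ ∈ K1 := by
    intro k hk
    obtain ⟨z, hz, rfl | rfl⟩ := hK1' k hk
    · exact Subgroup.mem_sup_left (nw_conj_H _ hz)
    · have h4 : c * a * c⁻¹ * a⁻¹ ∈ (R F).H := by
        have h5 : (nwG (reflWord 11 ++ reflWord 7) : Grp F) * ((nwG (reflWord 7 ++ reflWord 11) : Grp F))⁻¹ ∈
            (R F).H := nw_div_mem_H fun s => by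
          have e := hc (wact (reflWord 7 ++ reflWord 11) s)
          rw [wact_append, wact_append, wact_append] at e
          rw [wact_append, wact_append]
          have e1 : ∀ t, wact (reflWord 7).reverse (wact (reflWord 7) t) = t := fun t => by
            exact ((actw_eq _ _).symm.trans (congrArg _ (actw_eq _ t).symm)).trans
              (TypeG2.model.S.actw_reverse' (reflWord 7) t)
          have e2 : ∀ t, wact (reflWord 11).reverse (wact (reflWord 11) t) = t := fun t => by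
            exact ((actw_eq _ _).symm.trans (congrArg _ (actw_eq _ t).symm)).trans
              (TypeG2.model.S.actw_reverse' (reflWord 11) t)
          rwa [wact_append, e1, e2] at e
        rw [nwG_append, nwG_append, ← ha, ← hc', mul_inv_rev] at h5
        simpa [mul_assoc] using h5
      rw [show c * (z * a) * c⁻¹ = (c * z * c⁻¹) * ((c * a * c⁻¹ * a⁻¹) * a) by group]
      exact mul_mem (Subgroup.mem_sup_left (nw_conj_H _ hz))
        (mul_mem (Subgroup.mem_sup_left h4) (Subgroup.mem_sup_right (Subgroup.mem_zpowers a)))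
  have hcK : c ∉ K1 := by
    intro h
    obtain ⟨z, hz, e | e⟩ := hK1' c h
    · exact h2 (act_id_of_mem_H (by rw [← hc', e]; exact hz) s₂)
    · refine h3 (act_id_of_mem_H (F := F) ?_ s₃)
      rw [nwG_append, ← ha, ← hc', e, show a * (z * a) = (a * z * a⁻¹) * a ^ 2 by rw [pow_two]; group]
      exact mul_mem (nw_conj_H _ hz) ha2
  have d2 := prime_mul_card_dvd K1 Nat.prime_two hcn hcK (Subgroup.mem_sup_left hc2)
  rw [show 4 * Nat.card ↥(R F).H = 2 * (2 * Nat.card ↥(R F).H) by ring]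
  exact (mul_dvd_mul_left 2 d1).trans d2

theorem three_mul_card_dvd : 3 * Nat.card ↥(R F).H ∣ Nat.card ↥(K3 (F := F)) := by
  obtain ⟨-, -, -, -, -, -, ⟨s, h⟩, h3⟩ := refl_perm_facts
  refine prime_mul_card_dvd (R F).H Nat.prime_three (fun k hk => nw_conj_H _ hk)
    (fun hm => h (act_id_of_mem_H hm s)) ?_
  exact (nw_pow (F := F) [0, 1, 0, 1] 3).symm ▸ nw_mem_H (F := F) h3

theorem conj_K4 (hQ : Fintype.card F % 4 = 1) {g : Grp F} (hg : g ^ 2 = 1) :
    ∃ y : Grp F, y * g * y⁻¹ ∈ K4 (F := F) := by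
  obtain ⟨N, hN, e⟩ := exists_index_four hQ
  obtain ⟨M, hM⟩ := Subgroup.card_subgroup_dvd_card (K4 (F := F))
  obtain ⟨c, hc⟩ := four_mul_card_dvd (F := F)
  refine exists_conj_mem _ Nat.prime_two hM ?_ (k := 1) (by simpa using hg)
  have h0 : 0 < Nat.card ↥(R F).H := Nat.card_pos
  have : c * M = N := by
    have h1 := card_group_split (F := F)
    rw [hM, hc, e] at h1
    exact Nat.eq_of_mul_eq_mul_left (mul_pos (by norm_num : 0 < 4) h0) (by linarith)
  exact fun hd => hN (this ▸ dvd_mul_of_dvd_right hd c)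

theorem conj_K3 (hQ : Fintype.card F % 9 = 1) {g : Grp F} (hg : g ^ 9 = 1) :
    ∃ y : Grp F, y * g * y⁻¹ ∈ K3 (F := F) := by
  obtain ⟨N, hN, e⟩ := exists_index_three hQ
  obtain ⟨M, hM⟩ := Subgroup.card_subgroup_dvd_card (K3 (F := F))
  obtain ⟨c, hc⟩ := three_mul_card_dvd (F := F)
  refine exists_conj_mem _ Nat.prime_three hM ?_ (k := 2) (by simpa using hg)
  have h0 : 0 < Nat.card ↥(R F).H := Nat.card_pos
  have : c * M = N := by
    have h1 := card_group_split (F := F)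
    rw [hM, hc, e] at h1
    exact Nat.eq_of_mul_eq_mul_left (mul_pos (by norm_num : 0 < 3) h0) (by linarith)
  exact fun hd => hN (this ▸ dvd_mul_of_dvd_right hd c)

end Cfsg.Agent.G2Orders80
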