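import Cfsg.Agent.G2Orders80.Classify
import Cfsg.Agent.ChevTori.Main
import Cfsg.Agent.ChevTori.Arith
import Cfsg.Agent.WeylGroup.G2
import Cfsg.Agent.S2371

/-!
Elements of prescribed orders in the group of type G2.
-/

set_option autoImplicit false

namespace Cfsg.Agent.G2Orders80

open Cfsg.Lie Cfsg.Agent.ChevGroup Cfsg.Agent.ChevCore

universe u

/-! ### evaluation of words over prime fields -/

/-- reduce a sparse vector modulo `p` -/
noncomputable def redS (p : ℕ) (L : SVec) : SVec :=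
  ktab 14 fun i => (i, keySum i L % (p : ℤ))

/-- apply a word to a sparse vector modulo `p` -/
noncomputable def evalW (p : ℕ) : List (ℕ × ℤ) → SVec → SVec
  | [], L => L
  | e :: w, L => forceS (evalW p w L) fun L' => forceS (redS p (applyX chevG2 (std chevG2) e.1 e.2 L')) id

/-- iterate -/
noncomputable def iterW (p : ℕ) (w : List (ℕ × ℤ)) : ℕ → SVec → SVec
  | 0, L => L
  | n + 1, L => forceS (iterW p w n L) fun L' => evalW p w L'

/-- `w ^ n` acts trivially modulo `p` -/
noncomputable def isOneB (p : ℕ) (w : List (ℕ × ℤ)) (n : ℕ) : Bool :=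
  kallUpTo 14 fun j => forceS (iterW p w n [(j, 1)]) fun L =>
    kallUpTo 14 fun i => zIsZero ((keySum i L - bif Nat.beq j i then 1 else 0) % (p : ℤ))

section eval

variable {F : Type u} [Field F] {p : ℕ} [CharP F p]

theorem vec_applyX' (r : ℕ) (z : ℤ) (L : SVec) :
    vec chevG2 F (applyX chevG2 (std chevG2) r z L) = (xR chevG2 F r (z : F)).mulVec (vec chevG2 F L) := by
  have h := vec_applyX chevG2 r z L
  funext a
  have e : vec chevG2 F (applyX chevG2 (std chevG2) r z L) a =
      ((vec chevG2 ℤ (applyX chevG2 (std chevG2) r z L) a : ℤ) : F) := vec_map_cast chevG2 _ a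
  rw [e, h]
  have h2 := RingHom.map_mulVec (Int.castRingHom F) (xR chevG2 ℤ r z) (vec chevG2 ℤ L) a
  rw [eq_intCast] at h2
  refine h2.trans ?_
  rw [xR_map]
  congr 1
  congr 1
  funext b
  exact (vec_map_cast chevG2 L b).symm

theorem intCast_emod (z : ℤ) : ((z % (p : ℤ) : ℤ) : F) = (z : F) :=
  (CharP.intCast_eq_intCast F p).2 (Int.emod_emod_of_dvd z dvd_rfl)

theorem vec_redS (L : SVec) : vec chevG2 F (redS p L) = vec chevG2 F L := by
  funext a
  have ha : code chevG2 a < 14 := code_lt chevG2 a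
  rw [vec_map_cast, vec_map_cast chevG2 L a, ← keySum_eq, ← keySum_eq]
  have h : keySum (code chevG2 a) (redS p L) = keySum (code chevG2 a) L % (p : ℤ) := by
    have key : ∀ (f : ℕ → ℤ) (j : ℕ), j < 14 → keySum j (ktab 14 fun i => (i, f i)) = f j := by
      intro f j hj
      interval_cases j <;> exact add_zero _
    exact key (fun i => keySum i L % (p : ℤ)) _ ha
  rw [h]
  exact intCast_emod _

/-- the element of a word -/
noncomputable def wordEl (F : Type u) [Field F] : List (Rt × ℤ) → Grp F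
  | [] => 1
  | e :: w => X e.1 (e.2 : F) * wordEl F w

/-- forget the bound on root indices -/
def natWord (w : List (Rt × ℤ)) : List (ℕ × ℤ) := w.map fun e => (e.1.val, e.2)

theorem vec_evalW : ∀ (w : List (Rt × ℤ)) (L : SVec),
    vec chevG2 F (evalW p (natWord w) L) = (Model.mat (wordEl F w)).mulVec (vec chevG2 F L)
  | [], L => by simp [natWord, evalW, wordEl, Model.mat]
  | e :: w, L => by
    show vec chevG2 F (evalW p ((e.1.val, e.2) :: natWord w) L) = _
    rw [evalW, forceS_eq, forceS_eq, id, vec_redS, vec_applyX', vec_evalW w L, wordEl,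
      Model.mat_mul, Matrix.mulVec_mulVec]
    congr 2
    rw [← uGoodG2.toCommGood.toGood.x_eq F (show e.1.val < chevG2.nroots from e.1.isLt)]
    rfl

theorem vec_iterW (w : List (Rt × ℤ)) (L : SVec) : ∀ n : ℕ,
    vec chevG2 F (iterW p (natWord w) n L) = (Model.mat (wordEl F w ^ n)).mulVec (vec chevG2 F L)
  | 0 => by simp [iterW, Model.mat]
  | n + 1 => by
    rw [iterW, forceS_eq, vec_evalW, vec_iterW w L n, Matrix.mulVec_mulVec, pow_succ', Model.mat_mul]

theorem wordEl_pow_eq_one_iff [Fact p.Prime] (w : List (Rt × ℤ)) (n : ℕ) :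
    wordEl F w ^ n = 1 ↔ isOneB p (natWord w) n = true := by
  have hb : isOneB p (natWord w) n = true ↔ ∀ j < 14, ∀ i < 14,
      (keySum i (iterW p (natWord w) n [(j, 1)]) - bif Nat.beq j i then 1 else 0) % (p : ℤ) = 0 := by
    simp only [isOneB, kallUpTo_iff, forceS_eq, zIsZero_iff]
  rw [hb]
  have key : ∀ a b : chevG2.Idx, Model.mat (wordEl F w ^ n) a b =
      ((keySum (code chevG2 a) (iterW p (natWord w) n [(code chevG2 b, 1)]) : ℤ) : F) := by
    intro a b
    rw [keySum_eq, ← vec_map_cast, vec_iterW, vec_basis]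
    simp
  constructor
  · intro h j hj i hi
    obtain ⟨b, rfl⟩ := exists_code_eq chevG2 (v := j) hj
    obtain ⟨a, rfl⟩ := exists_code_eq chevG2 (v := i) hi
    have h1 := key a b
    rw [h] at h1
    rw [← Int.dvd_iff_emod_eq_zero, ← CharP.intCast_eq_zero_iff F p, Int.cast_sub, ← h1]
    by_cases hab : a = b
    · subst hab
      rw [show Nat.beq (code chevG2 a) (code chevG2 a) = true by simp]
      simp [Model.mat]
    · rw [show Nat.beq (code chevG2 b) (code chevG2 a) = false from Bool.eq_false_iff.2 fun hbb =>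
        hab (code_injective chevG2 (Nat.eq_of_beq_eq_true hbb).symm)]
      simp [Model.mat, hab]
  · intro h
    refine Model.mat_inj (Matrix.ext fun a b => ?_)
    rw [key a b]
    have h1 := h _ (code_lt chevG2 b) _ (code_lt chevG2 a)
    rw [← Int.dvd_iff_emod_eq_zero, ← CharP.intCast_eq_zero_iff F p, Int.cast_sub, sub_eq_zero] at h1
    rw [h1]
    by_cases hab : a = b
    · subst hab
      rw [show Nat.beq (code chevG2 a) (code chevG2 a) = true by simp]
      simp [Model.mat]
    · rw [show Nat.beq (code chevG2 b) (code chevG2 a) = false from Bool.eq_false_iff.2 fun hbb =>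
        hab (code_injective chevG2 (Nat.eq_of_beq_eq_true hbb).symm)]
      simp [Model.mat, hab]

end eval

theorem cert_three : isOneB 3 (natWord [(7, 1), (6, 1)]) 9 = true ∧
    isOneB 3 (natWord [(7, 1), (6, 1)]) 3 = false := by decide +kernel

theorem cert_five : isOneB 5 (natWord [(7, 1), (6, 1)]) 25 = true ∧
    isOneB 5 (natWord [(7, 1), (6, 1)]) 5 = false := by decide +kernel

theorem cert_eight : isOneB 2 (natWord [(7, 1), (6, 1)]) 8 = true ∧
    isOneB 2 (natWord [(7, 1), (6, 1)]) 4 = false := by decide +kernel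

theorem cert_twelve : isOneB 2 (natWord [(0, 1), (2, 1), (9, 1)]) 12 = true ∧
    isOneB 2 (natWord [(0, 1), (2, 1), (9, 1)]) 4 = false ∧
    isOneB 2 (natWord [(0, 1), (2, 1), (9, 1)]) 6 = false := by decide +kernel

variable {F : Type u} [Field F] [Fintype F] {p : ℕ} [Fact p.Prime] [CharP F p]

theorem exists_order_sq (hp : p = 3 ∨ p = 5) : ∃ g : Grp F, orderOf g = p ^ 2 := by
  refine ⟨wordEl F [(7, 1), (6, 1)], orderOf_eq_prime_pow (n := 1) ?_ ?_⟩
  all_goals rw [wordEl_pow_eq_one_iff (p := p)]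
  all_goals rcases hp with rfl | rfl
  · simp only [pow_one]; rw [cert_three.2]; decide
  · simp only [pow_one]; rw [cert_five.2]; decide
  · exact cert_three.1
  · exact cert_five.1

theorem exists_order_eight (hp : p = 2) : ∃ g : Grp F, orderOf g = 8 := by
  subst hp
  refine ⟨wordEl F [(7, 1), (6, 1)], orderOf_eq_prime_pow (p := 2) (n := 2) ?_ ?_⟩
  · rw [wordEl_pow_eq_one_iff (p := 2), show (2 : ℕ) ^ 2 = 4 by norm_num, cert_eight.2]; decide
  · rw [wordEl_pow_eq_one_iff (p := 2)]; exact cert_eight.1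

theorem exists_order_twelve (hp : p = 2) : ∃ g : Grp F, orderOf g = 12 := by
  subst hp
  set g := wordEl F [(0, 1), (2, 1), (9, 1)]
  refine ⟨g, ?_⟩
  have h12 : orderOf g ∣ 12 := orderOf_dvd_of_pow_eq_one ((wordEl_pow_eq_one_iff (p := 2) _ _).2 cert_twelve.1)
  have h4 : ¬ orderOf g ∣ 4 := fun h => by
    have := (wordEl_pow_eq_one_iff (p := 2) _ _).1 (orderOf_dvd_iff_pow_eq_one.1 h)
    rw [cert_twelve.2.1] at this
    exact Bool.false_ne_true this
  have h6 : ¬ orderOf g ∣ 6 := fun h => by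
    have := (wordEl_pow_eq_one_iff (p := 2) _ _).1 (orderOf_dvd_iff_pow_eq_one.1 h)
    rw [cert_twelve.2.2] at this
    exact Bool.false_ne_true this
  have := Nat.le_of_dvd (by norm_num) h12
  interval_cases h : orderOf g <;> omega

/-! ### tori -/

theorem mem_range_of_pow {L : Type*} [Field L] [Fintype L] (i : F →+* L) {x : L}
    (hx : x ^ Fintype.card F = x) : ∃ c, i c = x := by
  classical
  set q := Fintype.card F
  have hq : 1 < q := Fintype.one_lt_card
  set f : Polynomial L := Polynomial.X ^ q - Polynomial.X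
  have hf0 : f ≠ 0 := FiniteField.X_pow_card_sub_X_ne_zero L hq
  have hsub : Finset.univ.image i ⊆ f.roots.toFinset := fun y hy => by
    obtain ⟨c, -, rfl⟩ := Finset.mem_image.1 hy
    simp [f, Polynomial.mem_roots hf0, ← map_pow, q, FiniteField.pow_card]
  have heq := Finset.eq_of_subset_of_card_le hsub (by
    rw [Finset.card_image_of_injective _ i.injective, Finset.card_univ]
    refine (Multiset.toFinset_card_le _).trans ((Polynomial.card_roots' f).trans ?_)
    rw [FiniteField.X_pow_card_sub_X_natDegree_eq L hq])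
  have hxm : x ∈ f.roots.toFinset := by simp [f, Polynomial.mem_roots hf0, hx]
  rw [← heq] at hxm
  obtain ⟨c, -, hc⟩ := Finset.mem_image.1 hxm
  exact ⟨c, hc⟩

theorem chi_hr (r s : Rt) {c : F} (hc : c ≠ 0) :
    χ ((R F).hr r c) s = c ^ chevG2.pairing r.val s.val := by
  have h1 : (R F).hr r c * X s 1 * ((R F).hr r c)⁻¹ = X s (χ ((R F).hr r c) s * 1) :=
    conj_X ((R F).hr_mem_H hc) s 1
  have h2 : (R F).hr r c * X s 1 * ((R F).hr r c)⁻¹ = X s (c ^ chevG2.pairing r.val s.val * 1) := by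
    rw [mul_inv_eq_iff_eq_mul]
    refine Model.mat_inj ?_
    have e := TypeG2.model.mat_hOf (relsOfCommGood uGoodG2.toCommGood F) r c
    refine (Model.mat_mul _ _).trans (Eq.trans ?_ (Model.mat_mul _ _).symm)
    exact (congrArg₂ (· * ·) e (TypeG2.model.mat_xG (relsOfCommGood uGoodG2.toCommGood F) s 1)).trans
      (((relsOfCommGood uGoodG2.toCommGood F).h_conj r.val s.val r.isLt s.isLt c 1 hc).trans
        (congrArg₂ (· * ·) (TypeG2.model.mat_xG (relsOfCommGood uGoodG2.toCommGood F) s _) e).symm)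
  simpa using X_inj s (h1.symm.trans h2)

theorem pairing_cert : chevG2.pairing 7 7 = 2 ∧ chevG2.pairing 7 6 = -3 ∧ chevG2.pairing 7 8 = -1 := by
  decide +kernel

theorem orth_cert : ((7 : Rt), (11 : Rt)) ∈ orthPairs := by decide

include p in
/-- a companion element -/
theorem exists_companion {N : ℕ} {L : Type} [Field L] [Fintype L] (i : F →+* L) (l : Lˣ)
    (hl : orderOf l = N) (hl2 : (l : L) ^ (Fintype.card F ^ 2) = l)
    (hne : (l : L) ^ Fintype.card F ≠ l) :
    ∃ (t : ↥(R F).H) (B : SL2 F) (c : Fˣ), psi2 t = (c, c⁻¹) ∧ i c = (l : L) ^ (Fintype.card F + 1) ∧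
      orderOf (t.1 * phi 7 B) = N := by
  set q := Fintype.card F with hq
  obtain ⟨p', hchar⟩ := CharP.exists L
  have hσ : ∀ a b : L, (a + b) ^ q = a ^ q + b ^ q := by
    haveI : CharP L p := charP_of_injective_ringHom i.injective p
    obtain ⟨a, -, e⟩ := card_eq_char_pow (F := F) (p := p)
    intro x y
    rw [hq, e]
    exact add_pow_expChar_pow x y p a
  have hl0 : (l : L) ≠ 0 := l.ne_zero
  obtain ⟨tr, htr⟩ := mem_range_of_pow i (x := (l : L) + (l : L) ^ q) (by
    rw [hσ, ← pow_mul, ← pow_two, hl2, add_comm])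
  obtain ⟨c, hc⟩ := mem_range_of_pow i (x := (l : L) ^ (q + 1)) (by
    rw [← pow_mul, show (q + 1) * q = q ^ 2 + q by ring, pow_add, hl2, pow_succ, mul_comm])
  have hc0 : c ≠ 0 := fun h => pow_ne_zero (q + 1) hl0 (by rw [← hc, h, map_zero])
  obtain ⟨t, ht⟩ := psi2_surjective (F := F) (Units.mk0 c hc0, (Units.mk0 c hc0)⁻¹)
  let B : SL2 F := ⟨!![0, -1; 1, tr], by simp [Matrix.det_fin_two]⟩
  refine ⟨t, B, Units.mk0 c hc0, ht, hc, ?_⟩
  set t' := gmap i t.1 with ht'def
  have ht' : t' ∈ (R L).H := gmap_H i t.2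
  have e7 : cfv 7 = (1, 0) := by decide
  have e6 : cfv 6 = (0, 1) := by decide
  have e8 : cfv 8 = (1, 1) := by decide
  have hchi : ∀ s : Rt, χ t' s =
      i ((ev2 (Units.mk0 c hc0) (Units.mk0 c hc0)⁻¹ (cfv s) : Fˣ) : F) := fun s => by
    rw [ht'def, chi_gmap, chi_eq t, ht]
  have h7 : χ t' 7 = i c := by rw [hchi, e7]; simp [ev2]
  set A : SL2 L := ⟨!![-(l : L), -1; 1, 0], by simp [Matrix.det_fin_two]⟩
  have hid : dconj (χ t' 7)⁻¹ (inv_ne_zero (chi_ne_zero ht' 7)) A⁻¹ * Matrix.SpecialLinearGroup.map i B * A =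
      ph slU slL (l : L)⁻¹ * slU (-(l : L) / i c) := by
    refine Subtype.ext ?_
    rw [Matrix.SpecialLinearGroup.coe_mul, Matrix.SpecialLinearGroup.coe_mul, coe_dconj,
      Matrix.SpecialLinearGroup.coe_inv, Matrix.SpecialLinearGroup.coe_mul, ph_sl (inv_ne_zero hl0),
      coe_slU, h7]
    have hic : i c ≠ 0 := (map_ne_zero i).2 hc0
    have hq1 : (l : L) ^ (q + 1) = (l : L) ^ q * l := pow_succ _ _
    have hB : ((Matrix.SpecialLinearGroup.map i B : SL2 L) : Matrix (Fin 2) (Fin 2) L) =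
        !![0, -1; 1, (l : L) + (l : L) ^ q] := by
      rw [Matrix.SpecialLinearGroup.map_apply_coe, ← htr]
      ext a b
      fin_cases a <;> fin_cases b <;> simp [B]
    rw [hB]
    ext a b
    fin_cases a <;> fin_cases b <;>
      simp [A, Matrix.mul_apply, Matrix.vecMul, dotProduct, Fin.sum_univ_two, Matrix.adjugate_fin_two, hc, hq1] <;>
      field_simp <;> ring
  set h := t' * (R L).hr 7 (l : L)⁻¹ with hh
  have hhH : h ∈ (R L).H := mul_mem ht' ((R L).hr_mem_H (inv_ne_zero hl0))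
  have hval : ∀ s : Rt, χ h s = χ t' s * ((l : L)⁻¹) ^ chevG2.pairing (7 : Rt).val s.val := fun s => by
    rw [hh, chi_mul ht' ((R L).hr_mem_H (inv_ne_zero hl0))]
    exact congrArg (χ t' s * ·) (chi_hr 7 s (inv_ne_zero hl0))
  have k7 : χ h 7 * (l : L) = (l : L) ^ q := by
    rw [hval, h7, hc, show chevG2.pairing (7 : Rt).val (7 : Rt).val = 2 from pairing_cert.1, zpow_two, pow_succ]
    field_simp
  have k8 : χ h 8 = (l : L) := by
    rw [hval, hchi, e8, show chevG2.pairing (7 : Rt).val (8 : Rt).val = -1 from pairing_cert.2.2]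
    simp [ev2]
  have hne7 : χ h 7 ≠ 1 := fun h1 => hne (by rw [← k7, h1, one_mul])
  obtain ⟨e, c', hc', hcl⟩ := exists_clean hhH 7 (-(l : L) / i c)
  have hc'0 : c' = 0 := hc'.resolve_right hne7
  have key : (X 7 e * (phi 7 A)⁻¹) * gmap i (t.1 * phi 7 B) * (X 7 e * (phi 7 A)⁻¹)⁻¹ = h := by
    rw [map_mul, gmap_phi, ← ht'def]
    calc X 7 e * (phi 7 A)⁻¹ * (t' * phi 7 (Matrix.SpecialLinearGroup.map i B)) * (X 7 e * (phi 7 A)⁻¹)⁻¹
        = X 7 e * (phi 7 A⁻¹ * t' * phi 7 (Matrix.SpecialLinearGroup.map i B) * phi 7 A) * (X 7 e)⁻¹ := by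
          rw [map_inv]; group
      _ = X 7 e * (t' * phi 7 (dconj (χ t' 7)⁻¹ (inv_ne_zero (chi_ne_zero ht' 7)) A⁻¹ *
            Matrix.SpecialLinearGroup.map i B * A)) * (X 7 e)⁻¹ := by
          rw [phi_mul_H ht' 7]; simp only [map_mul, mul_assoc]
      _ = X 7 e * (h * X 7 (-(l : L) / i c)) * (X 7 e)⁻¹ := by
          rw [hid, map_mul, phi_ph, phi_U, hh]; simp only [mul_assoc]; rfl
      _ = h := by rw [hcl, hc'0, X_zero, mul_one]
  have ho : orderOf (t.1 * phi 7 B) = orderOf h := by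
    rw [← key, ← orderOf_injective (gmap i) (gmap_injective i),
      ← orderOf_injective (MulAut.conj (X 7 e * (phi 7 A)⁻¹)).toMonoidHom (MulAut.conj _).injective]
    rfl
  rw [ho]
  set a1 := (psi2 ⟨h, hhH⟩).1 with ha1
  set b1 := (psi2 ⟨h, hhH⟩).2 with hb1
  have hab : a1 * b1 = l := Units.ext (by
    have h8 := chi_eq ⟨h, hhH⟩ 8
    rw [k8] at h8
    rw [h8, e8, ev2, zpow_one, zpow_one])
  have ha : a1 * l = l ^ q := Units.ext (by
    have h71 := chi_eq ⟨h, hhH⟩ 7
    rw [Units.val_mul, Units.val_pow_eq_pow_val, ← k7, h71, e7]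
    simp [ev2, ha1])
  apply Nat.dvd_antisymm
  · apply orderOf_dvd_of_pow_eq_one
    have hlN : l ^ N = 1 := hl ▸ pow_orderOf_eq_one l
    have h1 : a1 ^ N = 1 := by
      have h2 := congrArg (· ^ N) ha
      simp only [mul_pow, hlN, mul_one] at h2
      rw [h2, ← pow_mul, mul_comm, pow_mul, hlN, one_pow]
    refine pow_eq_one_of hhH ⟨h1, ?_⟩
    have h2 := congrArg (· ^ N) hab
    simpa [mul_pow, h1, hlN] using h2
  · rw [← hl]
    apply orderOf_dvd_of_pow_eq_one
    obtain ⟨e1, e2⟩ := psi2_pow_of hhH (pow_orderOf_eq_one h)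
    rw [← hab, mul_pow, ha1, hb1, e1, e2, one_mul]

theorem exists_generator_ext : ∃ (L : Type) (_ : Field L) (_ : Fintype L) (_ : F →+* L) (l : Lˣ),
    orderOf l = Fintype.card F ^ 2 - 1 ∧ Fintype.card L = Fintype.card F ^ 2 := by
  classical
  obtain ⟨L, _, _, i, hL, -⟩ := exists_quadratic F
  obtain ⟨l, hl⟩ := IsCyclic.exists_ofOrder_eq_natCard (α := Lˣ)
  exact ⟨L, inferInstance, inferInstance, i, l,
    by rw [hl, Nat.card_eq_fintype_card, Fintype.card_units, hL], hL⟩

include p in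
theorem exists_order_sq_sub_one (hq : 3 ≤ Fintype.card F) :
    ∃ g : Grp F, orderOf g = Fintype.card F ^ 2 - 1 := by
  obtain ⟨L, _, _, i, l, hl, hL⟩ := exists_generator_ext (F := F)
  obtain ⟨t, B, c, -, -, h⟩ := exists_companion (p := p) i l hl
    (by rw [← hL]; exact FiniteField.pow_card _)
    (fun h => by
      have h1 : l ^ (Fintype.card F - 1) = 1 := by
        have h2 : l ^ Fintype.card F = l := Units.ext (by rw [Units.val_pow_eq_pow_val]; exact h)
        rw [show Fintype.card F = Fintype.card F - 1 + 1 by omega, pow_succ] at h2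
        exact mul_eq_right.1 h2
      have h3 := Nat.le_of_dvd (by omega) (hl ▸ orderOf_dvd_of_pow_eq_one h1)
      have : Fintype.card F * 3 ≤ Fintype.card F ^ 2 := by
        rw [pow_two]; exact Nat.mul_le_mul_left _ hq
      omega)
  exact ⟨_, h⟩

theorem orderOf_X (s : Rt) : orderOf (X s 1 : Grp F) = p :=
  orderOf_eq_prime (X_pow_char s 1) fun h => one_ne_zero (X_inj s (h.trans (X_zero s).symm))

theorem orderOf_mul_X {g : Grp F} {N : ℕ} (hg : orderOf g = N) (hN : N.Coprime p)
    (hc : Commute g (X 11 1)) : orderOf (g * X 11 1) = p * N := by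
  rw [hc.orderOf_mul_eq_mul_orderOf_of_coprime (by rw [hg, orderOf_X (p := p)]; exact hN), hg,
    orderOf_X (p := p), mul_comm]

theorem coprime_sub_one : (Fintype.card F - 1).Coprime p ∧ (Fintype.card F + 1).Coprime p := by
  have hp : p.Prime := Fact.out
  obtain ⟨a, ha, e⟩ := card_eq_char_pow (F := F) (p := p)
  have hd : p ∣ Fintype.card F := e ▸ dvd_pow_self p ha.ne'
  have h1 : 1 ≤ Fintype.card F := Fintype.card_pos
  constructor
  · refine (hp.coprime_iff_not_dvd.2 fun h => ?_).symm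
    have := Nat.dvd_sub hd h
    rw [Nat.sub_sub_self h1, Nat.dvd_one] at this
    exact hp.one_lt.ne' this
  · refine (hp.coprime_iff_not_dvd.2 fun h => ?_).symm
    have := Nat.dvd_sub h hd
    rw [add_tsub_cancel_left, Nat.dvd_one] at this
    exact hp.one_lt.ne' this

theorem exists_order_p_add_one (hq : 3 ≤ Fintype.card F) :
    ∃ g : Grp F, orderOf g = p * (Fintype.card F + 1) := by
  obtain ⟨L, _, _, i, l, hl, hL⟩ := exists_generator_ext (F := F)
  set q := Fintype.card F with hqdef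
  have hfac : q ^ 2 - 1 = (q + 1) * (q - 1) := by
    rw [← Nat.sq_sub_sq, one_pow]
  set m := l ^ (q - 1) with hm
  have hmo : orderOf m = q + 1 := by
    rw [hm, orderOf_pow' l (by omega), hl, hfac, Nat.gcd_eq_right (dvd_mul_left _ _),
      Nat.mul_div_cancel _ (by omega)]
  obtain ⟨t, B, c, ht, hc, h⟩ := exists_companion (p := p) i m hmo
    (by rw [← hL]; exact FiniteField.pow_card _)
    (fun h => by
      have h1 : m ^ (q - 1) = 1 := by
        have h2 : m ^ q = m := Units.ext (by rw [Units.val_pow_eq_pow_val]; exact h)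
        rw [show q = q - 1 + 1 by omega, pow_succ] at h2
        exact mul_eq_right.1 h2
      have h3 := Nat.le_of_dvd (by omega) (hmo ▸ orderOf_dvd_of_pow_eq_one h1)
      omega)
  have hc1 : c = 1 := by
    refine Units.ext (i.injective ?_)
    rw [hc, Units.val_one, map_one, ← Units.val_pow_eq_pow_val, ← hmo, pow_orderOf_eq_one, Units.val_one]
  have ht1 : t = 1 := psi2_injective (by rw [ht, map_one, hc1, inv_one]; rfl)
  rw [ht1, OneMemClass.coe_one, one_mul] at h
  refine ⟨_, orderOf_mul_X h (coprime_sub_one (F := F) (p := p)).2 ?_⟩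
  rw [← phi_U 11]
  exact phi_comm orth_cert B (slU 1)

theorem exists_order_p_sub_one (hq : 3 ≤ Fintype.card F) :
    ∃ g : Grp F, orderOf g = p * (Fintype.card F - 1) := by
  classical
  obtain ⟨l, hl⟩ := IsCyclic.exists_ofOrder_eq_natCard (α := Fˣ)
  rw [Nat.card_eq_fintype_card, Fintype.card_units] at hl
  have hH : (R F).hr 7 (l : F) ∈ (R F).H := (R F).hr_mem_H l.ne_zero
  have ho : orderOf ((R F).hr 7 (l : F)) = Fintype.card F - 1 := by
    apply Nat.dvd_antisymm
    · exact orderOf_dvd_of_pow_eq_one (pow_card_sub_one hH)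
    rw [← hl]
    apply orderOf_dvd_of_pow_eq_one
    obtain ⟨e1, e2⟩ := psi2_pow_of hH (pow_orderOf_eq_one _)
    have h8 := chi_eq ⟨_, hH⟩ 8
    have h8' := (chi_hr (F := F) 7 8 l.ne_zero).symm.trans h8
    rw [show chevG2.pairing (7 : Rt).val (8 : Rt).val = -1 from pairing_cert.2.2,
      ← Units.val_zpow_eq_zpow_val] at h8'
    have h9 := Units.ext h8'
    rw [show cfv 8 = (1, 1) by decide, ev2, zpow_one, zpow_one, _root_.zpow_neg, zpow_one] at h9
    rw [← inv_eq_one, ← inv_pow, h9, mul_pow, e1, e2, one_mul]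
  refine ⟨_, orderOf_mul_X ho (coprime_sub_one (F := F) (p := p)).1 ?_⟩
  rw [← phi_U 11]
  exact (phi_ph (F := F) 7 (l : F)) ▸ phi_comm orth_cert (ph slU slL (l : F)) (slU 1)

omit [Fintype F] [Fact p.Prime] [CharP F p] in
theorem Phi_six (q : ℕ) : NumberTheory.Phi 6 q = q ^ 2 - q + 1 := by
  rw [NumberTheory.Phi, Polynomial.cyclotomic_six]
  have h : q ≤ q ^ 2 := Nat.le_self_pow two_ne_zero q
  simp only [Polynomial.eval_add, Polynomial.eval_sub, Polynomial.eval_pow, Polynomial.eval_X, Polynomial.eval_one]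
  rw [show ((q : ℤ) ^ 2 - q + 1) = ((q ^ 2 - q + 1 : ℕ) : ℤ) by push_cast [Nat.cast_sub h]; ring, Int.natAbs_natCast]

omit [Fact p.Prime] [CharP F p] in
theorem exists_order_phi3 (hq : 3 ≤ Fintype.card F) :
    ∃ g : Grp F, orderOf g = Fintype.card F ^ 2 + Fintype.card F + 1 := by
  obtain ⟨H, hc, hcard, -⟩ := S2371.result (Fintype.card F) rfl hq
  haveI := hc
  obtain ⟨g, hg⟩ := IsCyclic.exists_ofOrder_eq_natCard (α := ↥H)
  exact ⟨g.1, by rw [Subgroup.orderOf_coe, hg, hcard]⟩

set_option maxRecDepth 20000 in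
omit [Fact p.Prime] [CharP F p] in
theorem exists_order_phi6 (hq : 3 ≤ Fintype.card F) :
    ∃ g : Grp F, orderOf g = Fintype.card F ^ 2 - Fintype.card F + 1 := by
  set q := Fintype.card F with hqdef
  obtain ⟨r, hp6⟩ := NumberTheory.exists_isPrimitivePrimeDivisor (a := q) (n := 6) (by omega) (by norm_num)
    (by omega) (by omega)
  have hr := hp6.1
  have hrq : orderOf (q : ZMod r) = 6 :=
    (NumberTheory.isPrimitivePrimeDivisor_iff hp6.1 (by omega) (by norm_num)).1 hp6
  have hdvd : r ∣ q ^ 6 - 1 := hp6.2.1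
  haveI := Fact.mk hr
  have hr6 : 6 < r := hp6.lt (by omega) (by norm_num)
  have hC : ChevCore.CommGood Cfsg.Lie.chevG2 := ChevCore.uGoodG2.toCommGood
  have hA := torusFacts_of_good hC.toGood
  obtain ⟨C, h1, h2, -⟩ := ChevTori.exists_cyclic_self_centralizing TypeG2.model uGoodG2 TypeG2.wit_ok
    TypeG2.longest_ok TypeG2.pos_span (F₀ := F) (q := q) (h := 6) (r := r) rfl (by norm_num) (by decide) hrq
    (fun h => by
      have h1 : r ∣ 12 := WeylGroup.card_g2 ▸
        h.trans (ChevTori.weyl_card_dvd TypeG2.model (Mx := CoxeterMatrix.G₂) (by decide +kernel))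
      have := Nat.le_of_dvd (by norm_num) h1
      interval_cases r <;> first | omega | norm_num at hr)
    (by
      rw [TypeG2.card_group hA (relsOfCommGood hC F) rfl]
      exact dvd_mul_of_dvd_right hdvd _)
    (fun K _ _ hK => by
      refine ChevTori.index_of_degrees (ChevTori.cast_pow_eq_one hrq) (Nat.one_le_pow _ _ (by omega))
        (a := 6) [2, 6] (l := 2) rfl ?_ (hK ▸ ChevFixed.TypeG2.card_torus hA (relsOfCommGood hC K)) ?_
      · intro d hd
        simp only [List.mem_cons, List.not_mem_nil, or_false] at hd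
        rcases hd with rfl | rfl <;> exact Nat.not_dvd_of_pos_of_lt (by norm_num) (by omega)
      · rw [TypeG2.card_group hA (relsOfCommGood hC K) hK]
        simp [List.prod_cons, mul_assoc])
    (fun K _ _ => ChevFixed.TypeG2.card_torus hA (relsOfCommGood hC K))
  haveI := h1
  obtain ⟨g, hg⟩ := IsCyclic.exists_ofOrder_eq_natCard (α := ↥C)
  exact ⟨g.1, by rw [Subgroup.orderOf_coe, hg, h2, Phi_six q]⟩

end Cfsg.Agent.G2Orders80
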