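import Cfsg.Agent.G2Orders80.Centralizer
import Cfsg.Agent.FG38.PolyMap

/-!
Exponents in the maximal unipotent subgroup of the group of type G2, and centralisers of regular
unipotent elements.
-/

set_option autoImplicit false

namespace Cfsg.Agent.G2Orders80

open Cfsg.Lie Cfsg.Agent.ChevGroup Cfsg.Agent.ChevCore
open scoped commutatorElement

universe u

section generic

variable {G : Type*} [Group G]

theorem closure_le_normalizer' {A : Set G} {K : Subgroup G}
    (h : ∀ a ∈ A, ∀ k ∈ K, a * k * a⁻¹ ∈ K) (h' : ∀ a ∈ A, ∀ k ∈ K, a⁻¹ * k * a ∈ K) :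
    Subgroup.closure A ≤ Subgroup.normalizer (K : Set G) :=
  (Subgroup.closure_le _).2 fun a ha => Subgroup.mem_normalizer_iff.2 fun k =>
    ⟨h a ha k, fun hk => by simpa [mul_assoc] using h' a ha _ hk⟩

theorem commutator_closure_mem {A B : Set G} {K : Subgroup G}
    (hA : Subgroup.closure A ≤ Subgroup.normalizer (K : Set G))
    (hB : Subgroup.closure B ≤ Subgroup.normalizer (K : Set G))
    (h : ∀ a ∈ A, ∀ b ∈ B, ⁅a, b⁆ ∈ K) {g k : G} (hg : g ∈ Subgroup.closure A)
    (hk : k ∈ Subgroup.closure B) : ⁅g, k⁆ ∈ K := by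
  have hc : ∀ {z y : G}, z ∈ Subgroup.normalizer (K : Set G) → y ∈ K → z * y * z⁻¹ ∈ K :=
    fun hz hy => (Subgroup.mem_normalizer_iff.1 hz _).1 hy
  have step : ∀ {C : Set G} {x : G}, Subgroup.closure C ≤ Subgroup.normalizer (K : Set G) →
      (∀ c ∈ C, ⁅c, x⁆ ∈ K) → ∀ {y : G}, y ∈ Subgroup.closure C → ⁅y, x⁆ ∈ K := by
    intro C x hC hx y hy
    induction hy using Subgroup.closure_induction with
    | mem c hc' => exact hx c hc'
    | one => simp
    | mul a b ha _ h1 h2 =>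
      rw [show ⁅a * b, x⁆ = (a * ⁅b, x⁆ * a⁻¹) * ⁅a, x⁆ by simp [commutatorElement_def]; group]
      exact mul_mem (hc (hC ha) h2) h1
    | inv a ha h1 =>
      rw [show ⁅a⁻¹, x⁆ = a⁻¹ * ⁅a, x⁆⁻¹ * a⁻¹⁻¹ by simp [commutatorElement_def]; group]
      exact hc (inv_mem (hC ha)) (inv_mem h1)
  have h1 : ∀ a ∈ A, ⁅a, k⁆ ∈ K := fun a ha => by
    rw [← commutatorElement_inv]
    exact inv_mem (step hB (fun b hb => by rw [← commutatorElement_inv]; exact inv_mem (h a ha b hb)) hk)
  exact step hA h1 hg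

theorem pow_mem_of_commutator {A : Set G} {K : Subgroup G}
    (hA : Subgroup.closure A ≤ Subgroup.normalizer (K : Set G))
    (h : ∀ a ∈ A, ∀ b ∈ A, ⁅a, b⁆ ∈ K) {n : ℕ} (hn : ∀ a ∈ A, a ^ n ∈ K)
    {g : G} (hg : g ∈ Subgroup.closure A) : g ^ n ∈ K := by
  set K0 := Subgroup.closure A with hK0
  haveI : (K.subgroupOf K0).Normal := ⟨fun x hx y => by
    rw [Subgroup.mem_subgroupOf] at hx ⊢
    exact (Subgroup.mem_normalizer_iff.1 (hA y.2) _).1 hx⟩
  have hcomm : ∀ x y : ↥K0 ⧸ K.subgroupOf K0, x * y = y * x := by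
    intro x y
    obtain ⟨a, rfl⟩ := QuotientGroup.mk_surjective x
    obtain ⟨b, rfl⟩ := QuotientGroup.mk_surjective y
    rw [← QuotientGroup.mk_mul, ← QuotientGroup.mk_mul, QuotientGroup.eq, Subgroup.mem_subgroupOf]
    have hmem := commutator_closure_mem (K := K) (g := (b : G)⁻¹) (k := (a : G)⁻¹) hA hA h
      (inv_mem b.2) (inv_mem a.2)
    simpa [commutatorElement_def, mul_assoc] using hmem
  have key : ∀ {z : G} (hz : z ∈ K0),
      (QuotientGroup.mk (⟨z, hz⟩ : ↥K0) : ↥K0 ⧸ K.subgroupOf K0) ^ n = 1 := by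
    intro z hz
    induction hz using Subgroup.closure_induction with
    | mem a ha =>
      rw [← QuotientGroup.mk_pow, QuotientGroup.eq_one_iff, Subgroup.mem_subgroupOf]
      exact hn a ha
    | one => exact one_pow n
    | mul a b ha hb h1 h2 =>
      rw [show (QuotientGroup.mk (⟨a * b, _⟩ : ↥K0) : ↥K0 ⧸ K.subgroupOf K0) =
        QuotientGroup.mk (⟨a, ha⟩ : ↥K0) * QuotientGroup.mk (⟨b, hb⟩ : ↥K0) from rfl]
      rw [(show Commute _ _ from hcomm _ _).mul_pow, h1, h2, one_mul]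
    | inv a ha h1 =>
      rw [show (QuotientGroup.mk (⟨a⁻¹, _⟩ : ↥K0) : ↥K0 ⧸ K.subgroupOf K0) =
        (QuotientGroup.mk (⟨a, ha⟩ : ↥K0))⁻¹ from rfl]
      rw [inv_pow, h1, inv_one]
  have h2 := key hg
  rwa [← QuotientGroup.mk_pow, QuotientGroup.eq_one_iff, Subgroup.mem_subgroupOf] at h2

/-- Exponent `p` in class less than `p`. -/
theorem pow_prime_eq_one_of_chain [Finite G] {p : ℕ} (hp : p.Prime) (K : ℕ → Subgroup G) {m : ℕ} (hm : m < p)
    (hbot : K m = ⊥) (hstep : ∀ i, i < m → ⁅K i, K 0⁆ ≤ K (i + 1))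
    (hexp : ∀ z ∈ K 1, z ^ p = 1) {A : Set G} (hA : K 0 = Subgroup.closure A)
    (hgen : ∀ a ∈ A, a ^ p = 1) {g : G} (hg : g ∈ K 0) : g ^ p = 1 := by
  rcases Nat.eq_zero_or_pos m with rfl | hm0
  · rw [hbot, Subgroup.mem_bot] at hg
    rw [hg, one_pow]
  have hlcs : ∀ i, i ≤ m →
      ((⊤ : Subgroup ↥(K 0)).lowerCentralSeries i).map (K 0).subtype ≤ K i := by
    intro i
    induction i with
    | zero => intro _; rw [Subgroup.lowerCentralSeries_zero, ← MonoidHom.range_eq_map, Subgroup.range_subtype]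
    | succ i ih =>
      intro hi
      rw [Subgroup.lowerCentralSeries_succ, Subgroup.map_commutator, ← MonoidHom.range_eq_map,
        Subgroup.range_subtype]
      exact (Subgroup.commutator_mono (ih (by omega)) le_rfl).trans (hstep i (by omega))
  have hcl : (⊤ : Subgroup ↥(K 0)).lowerCentralSeries (p - 1) = ⊥ := by
    refine eq_bot_iff.2 ((Subgroup.lowerCentralSeries_antitone (⊤ : Subgroup ↥(K 0)) (show m ≤ p - 1 by omega)).trans ?_)
    rw [← Subgroup.map_le_map_iff_of_injective (K 0).subtype_injective, Subgroup.map_bot]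
    exact hbot ▸ hlcs m le_rfl
  have hc : ∀ z ∈ _root_.commutator ↥(K 0), z ^ p = 1 := by
    intro z hz
    refine Subtype.ext ?_
    rw [Subgroup.coe_pow, Subgroup.coe_one]
    refine hexp _ ?_
    have h1 := (Subgroup.map_subtype_commutator (K 0)).le ⟨z, hz, rfl⟩
    exact (hstep 0 hm0) h1
  have key : ∀ {z : G} (hz : z ∈ Subgroup.closure A),
      (⟨z, hA.symm ▸ hz⟩ : ↥(K 0)) ^ p = 1 := by
    intro z hz
    induction hz using Subgroup.closure_induction with
    | mem a ha => exact Subtype.ext (hgen a ha)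
    | one => exact one_pow p
    | mul a b ha hb h1 h2 =>
      exact FG38.mul_pow_prime_eq_one hp hcl hc h1 h2
    | inv a ha h1 =>
      show (⟨a, hA.symm ▸ ha⟩ : ↥(K 0))⁻¹ ^ p = 1
      rw [inv_pow, h1, inv_one]
  exact congrArg Subtype.val (key (hA ▸ hg))

end generic

variable {F : Type u} [Field F]

/-- generators of a unipotent subgroup given by roots -/
def gens (F : Type u) [Field F] (S : List Rt) : Set (Grp F) := {g | ∃ r ∈ S, ∃ c, g = X r c}

/-- a unipotent subgroup given by roots -/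
noncomputable def XG (F : Type u) [Field F] (S : List Rt) : Subgroup (Grp F) := Subgroup.closure (gens F S)

/-- commutators of two sets of root groups land in a third one, modulo `m` -/
def commB (m : ℕ) (S A B : List Rt) : Prop :=
  ∀ r ∈ A, ∀ s ∈ B, r.val = s.val ∨ (s.val ≠ chevG2.neg r.val ∧
    ∀ c ∈ chevG2.commTerms r.val s.val, (∃ x ∈ S, x.val = c.1) ∨ (m : ℤ) ∣ c.2.1)

instance (m : ℕ) (S A B : List Rt) : Decidable (commB m S A B) := by unfold commB; infer_instance

theorem comm_mem {m : ℕ} (hm : (m : F) = 0) {S A B : List Rt} (hB : commB m S A B)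
    {a b : Grp F} (ha : a ∈ gens F A) (hb : b ∈ gens F B) : ⁅a, b⁆ ∈ XG F S := by
  obtain ⟨r, hr, t, rfl⟩ := ha
  obtain ⟨s, hs, u, rfl⟩ := hb
  by_cases hrs : r.val = s.val
  · obtain rfl : r = s := Fin.ext hrs
    rw [commutatorElement_eq_one_iff_commute.2 (show Commute _ _ by
      show _ * _ = _ * _
      rw [← X_add, ← X_add, add_comm])]
    exact one_mem _
  obtain ⟨h2, h⟩ := (hB r hr s hs).resolve_left hrs
  have hG := uGoodG2.toCommGood.toGood
  have e := uGoodG2.toCommGood.xg_comm (F := F) (r := r.val) (s := s.val) r.isLt s.isLt (Ne.symm hrs) h2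
    (-t) (-u)
  suffices key : ((⁅X s u, X r t⁆ : Grp F) : GL chevG2.Idx F) ∈ (XG F S).map (chevG2.group F).subtype by
    obtain ⟨y, hy, he⟩ := key
    rw [← commutatorElement_inv]
    exact inv_mem ((Subtype.ext he : y = _) ▸ hy)
  have e2 : ((⁅X s u, X r t⁆ : Grp F) : GL chevG2.Idx F) =
      wordG chevG2 F (chevG2.commWord F r.val s.val (-t) (-u)) := by
    rw [mul_assoc] at e
    have e3 : (xg chevG2 F r.val (-t) * xg chevG2 F s.val (-u))⁻¹ *
        (xg chevG2 F s.val (-u) * xg chevG2 F r.val (-t)) =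
          wordG chevG2 F (chevG2.commWord F r.val s.val (-t) (-u)) := by rw [e]; group
    rw [← e3, ← hG.xg_inv, ← hG.xg_inv, commutatorElement_def, Subgroup.coe_mul, Subgroup.coe_mul,
      Subgroup.coe_mul, Subgroup.coe_inv, Subgroup.coe_inv, val_X, val_X]
    group
  rw [e2]
  refine Subgroup.list_prod_mem _ fun g hg => ?_
  obtain ⟨q, hq, rfl⟩ := List.mem_map.1 hg
  obtain ⟨c, hc, rfl⟩ := List.mem_map.1 hq
  rcases h c hc with ⟨x, hx, hxc⟩ | hd
  · refine ⟨X x ((c.2.1 : F) * (- -t) ^ c.2.2.1 * (-u) ^ c.2.2.2),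
      Subgroup.subset_closure ⟨x, hx, _, rfl⟩, ?_⟩
    show ((X x ((c.2.1 : F) * (- -t) ^ c.2.2.1 * (-u) ^ c.2.2.2) : Grp F) : GL chevG2.Idx F) = _
    rw [val_X, hxc]
  · obtain ⟨k, hk⟩ := hd
    rw [show ((c.2.1 : ℤ) : F) = 0 by rw [hk, Int.cast_mul, Int.cast_natCast, hm, zero_mul],
      zero_mul, zero_mul, hG.xg_zero]
    exact one_mem _

theorem XG_normalizes {m : ℕ} (hm : (m : F) = 0) {S A : List Rt} (hB : commB m S A S) :
    XG F A ≤ Subgroup.normalizer (XG F S : Set (Grp F)) := by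
  have key : ∀ a ∈ gens F A, ∀ k ∈ XG F S, a * k * a⁻¹ ∈ XG F S := by
    intro a ha k hk
    induction hk using Subgroup.closure_induction with
    | mem k hk =>
      rw [show a * k * a⁻¹ = ⁅a, k⁆ * k by simp [commutatorElement_def]]
      exact mul_mem (comm_mem hm hB ha hk) (Subgroup.subset_closure hk)
    | one => simp
    | mul x y _ _ h1 h2 => simpa [mul_assoc] using mul_mem h1 h2
    | inv x _ h1 => simpa [mul_assoc] using inv_mem h1
  refine closure_le_normalizer' key fun a ha k hk => ?_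
  obtain ⟨r, hr, t, rfl⟩ := ha
  have := key (X r (-t)) ⟨r, hr, -t, rfl⟩ k hk
  rwa [X_neg, inv_inv] at this

theorem commutator_XG_le {m : ℕ} (hm : (m : F) = 0) {S A B : List Rt} (hA : commB m S A S)
    (hB : commB m S B S) (h : commB m S A B) : ⁅XG F A, XG F B⁆ ≤ XG F S :=
  Subgroup.commutator_le.2 fun _ ha _ hb => commutator_closure_mem (XG_normalizes hm hA)
    (XG_normalizes hm hB) (fun _ ha' _ hb' => comm_mem hm h ha' hb') ha hb

theorem XG_nil : XG F ([] : List Rt) = ⊥ := by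
  rw [XG, Subgroup.closure_eq_bot_iff]
  rintro _ ⟨r, hr, -⟩
  simp at hr

theorem X_pow (s : Rt) (c : F) : ∀ n : ℕ, (X s c : Grp F) ^ n = X s (n • c)
  | 0 => by rw [pow_zero, zero_smul, X_zero]
  | n + 1 => by rw [pow_succ, X_pow s c n, succ_nsmul, X_add]

section char

variable [Fintype F] {p : ℕ} (hp : p.Prime) [CharP F p]

include hp

theorem gens_pow {S : List Rt} {a : Grp F} (ha : a ∈ gens F S) : a ^ p = 1 := by
  have := hp
  obtain ⟨r, -, c, rfl⟩ := ha
  rw [X_pow, nsmul_eq_mul, CharP.cast_eq_zero, zero_mul, X_zero]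

/-- exponent from a descending chain of root sets -/
theorem chain_exp (L : List (List Rt)) (hL : L.length < p)
    (hexp : ∀ z ∈ XG F (L.getD 1 []), z ^ p = 1)
    (hB : ∀ i, i < L.length → commB 0 (L.getD (i + 1) []) (L.getD i []) (L.getD 0 []) ∧
      commB 0 (L.getD (i + 1) []) (L.getD i []) (L.getD (i + 1) []) ∧
      commB 0 (L.getD (i + 1) []) (L.getD 0 []) (L.getD (i + 1) []))
    {g : Grp F} (hg : g ∈ XG F (L.getD 0 [])) : g ^ p = 1 := by
  refine pow_prime_eq_one_of_chain hp (fun i => XG F (L.getD i [])) (m := L.length) hL ?_ ?_ hexp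
    rfl (fun a ha => gens_pow hp ha) hg
  · show XG F (L.getD L.length []) = ⊥
    rw [List.getD_eq_default _ _ le_rfl, XG_nil]
  · intro i hi
    obtain ⟨h1, h2, h3⟩ := hB i hi
    exact commutator_XG_le (F := F) Nat.cast_zero h2 h3 h1

theorem XG_abelian_exp {S : List Rt} (h : commB 0 [] S S) {g : Grp F} (hg : g ∈ XG F S) :
    g ^ p = 1 := by
  have h1 : ∀ a ∈ gens F S, ∀ k ∈ (⊥ : Subgroup (Grp F)), a * k * a⁻¹ ∈ (⊥ : Subgroup (Grp F)) := by
    intro a _ k hk
    rw [Subgroup.mem_bot] at hk ⊢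
    rw [hk]; group
  exact Subgroup.mem_bot.1 (pow_mem_of_commutator (closure_le_normalizer' h1 fun a _ k hk => by
      rw [Subgroup.mem_bot] at hk ⊢; rw [hk]; group)
    (fun a ha b hb => XG_nil (F := F) ▸ comm_mem Nat.cast_zero h ha hb)
    (fun a ha => Subgroup.mem_bot.2 (gens_pow hp ha)) hg)

end char

/-- all positive roots -/
def u1 : List Rt := [6, 7, 8, 9, 10, 11]

/-- positive roots of height at least two -/
def u2 : List Rt := [8, 9, 10, 11]

/-- positive roots other than the short fundamental root -/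
def ra : List Rt := [6, 8, 9, 10, 11]

/-- positive roots other than the long fundamental root -/
def rb : List Rt := [7, 8, 9, 10, 11]

theorem chain_cert :
    (∀ L ∈ [[u1, u2, [9, 10, 11], [10, 11], [11]], [u2, [11]], [ra, [11]],
        [rb, [9, 10, 11], [10, 11]]], ∀ i, i < (L : List (List Rt)).length →
      commB 0 (L.getD (i + 1) []) (L.getD i []) (L.getD 0 []) ∧
      commB 0 (L.getD (i + 1) []) (L.getD i []) (L.getD (i + 1) []) ∧
      commB 0 (L.getD (i + 1) []) (L.getD 0 []) (L.getD (i + 1) [])) ∧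
    commB 0 [] [11] [11] ∧ commB 0 [] [9, 10, 11] [9, 10, 11] ∧ commB 0 [] [10, 11] [10, 11] ∧
    commB 2 [11] ra ra ∧ commB 2 [11] ra [11] ∧
    commB 2 [10, 11] rb rb ∧ commB 2 [10, 11] rb [10, 11] ∧
    commB 0 u2 u1 u1 ∧ commB 0 u2 u1 u2 := by
  decide +kernel

theorem pos_iff (s : Rt) : TypeG2.model.S.pos s ↔ 6 ≤ s.val := by
  show 12 ≤ 2 * s.val ↔ _
  omega

theorem simple_val :
    Fin.val (TypeG2.model.S.simple (0 : Si)) = 7 ∧ Fin.val (TypeG2.model.S.simple (1 : Si)) = 6 := by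
  decide +kernel

theorem mem_ra (s : Rt) (h : TypeG2.model.S.pos s) (hne : s ≠ TypeG2.model.S.simple (0 : Si)) : s ∈ ra := by
  have key : ∀ s : Rt, 6 ≤ s.val → s.val ≠ 7 → s ∈ ra := by decide +kernel
  exact key s ((pos_iff s).1 h) fun e => hne (Fin.ext (e.trans simple_val.1.symm))

theorem mem_rb (s : Rt) (h : TypeG2.model.S.pos s) (hne : s ≠ TypeG2.model.S.simple (1 : Si)) : s ∈ rb := by
  have key : ∀ s : Rt, 6 ≤ s.val → s.val ≠ 6 → s ∈ rb := by decide +kernel
  exact key s ((pos_iff s).1 h) fun e => hne (Fin.ext (e.trans simple_val.2.symm))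

theorem mem_u1 (s : Rt) (h : TypeG2.model.S.pos s) : s ∈ u1 := by
  have key : ∀ s : Rt, 6 ≤ s.val → s ∈ u1 := by decide +kernel
  exact key s ((pos_iff s).1 h)

theorem u2_sub_ra : ∀ r ∈ u2, r ∈ ra := by decide +kernel

theorem pos_of_posR {r : Rt} (hr : r ∈ posR) : TypeG2.model.S.pos r := by
  have key : ∀ r ∈ posR, 6 ≤ r.val := by decide +kernel
  exact (pos_iff r).2 (key r hr)

theorem U_le_XG : (R F).U ≤ XG F u1 :=
  Subgroup.closure_mono fun _ ⟨r, t, hr, e⟩ => ⟨r, mem_u1 r hr, t, e⟩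

theorem Ui0_le : (R F).Ui (0 : Si) ≤ XG F ra :=
  Subgroup.closure_mono fun _ ⟨r, t, hr, hne, e⟩ => ⟨r, mem_ra r hr hne, t, e⟩

theorem Ui1_le : (R F).Ui (1 : Si) ≤ XG F rb :=
  Subgroup.closure_mono fun _ ⟨r, t, hr, hne, e⟩ => ⟨r, mem_rb r hr hne, t, e⟩

section exponent

variable [Fintype F] {p : ℕ} (hp : p.Prime) [CharP F p]

include hp

theorem XG_u2_exp (h3 : 3 ≤ p) {g : Grp F} (hg : g ∈ XG F u2) : g ^ p = 1 :=
  chain_exp hp [u2, [11]] (by simp; omega) (fun _ hz => XG_abelian_exp hp chain_cert.2.1 hz)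
    (chain_cert.1 _ (by simp)) hg

/-- the exponent of `U` -/
theorem U_pow {g : Grp F} (hg : g ∈ (R F).U) :
    (7 ≤ p → g ^ p = 1) ∧ (3 ≤ p → g ^ (p ^ 2) = 1) ∧ (p = 2 → g ^ 8 = 1) := by
  have hg' := U_le_XG hg
  have hn := XG_normalizes (F := F) (m := 0) Nat.cast_zero (S := u2) (A := u1) chain_cert.2.2.2.2.2.2.2.2.2
  have h1 : g ^ p ∈ XG F u2 := pow_mem_of_commutator hn
    (fun a ha b hb => comm_mem Nat.cast_zero chain_cert.2.2.2.2.2.2.2.2.1 ha hb)
    (fun a ha => by rw [gens_pow hp ha]; exact one_mem _) hg'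
  refine ⟨fun h7 => ?_, fun h3 => ?_, fun h2 => ?_⟩
  · exact chain_exp hp [u1, u2, [9, 10, 11], [10, 11], [11]] (by simp; omega)
      (fun _ hz => XG_u2_exp hp (by omega) hz) (chain_cert.1 _ (by simp)) hg'
  · rw [pow_two, pow_mul]
    exact XG_u2_exp hp h3 h1
  · subst h2
    have hsub : XG F u2 ≤ XG F ra := Subgroup.closure_mono fun _ ⟨r, hr, c, e⟩ =>
      ⟨r, u2_sub_ra r hr, c, e⟩
    have h2 : (g ^ 2) ^ 2 ∈ XG F [11] := pow_mem_of_commutator
      (XG_normalizes (F := F) (m := 2) (by simpa using CharP.cast_eq_zero F 2) chain_cert.2.2.2.2.2.1)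
      (fun a ha b hb => comm_mem (by simpa using CharP.cast_eq_zero F 2) chain_cert.2.2.2.2.1 ha hb)
      (fun a ha => by rw [gens_pow hp ha]; exact one_mem _) (hsub h1)
    have := XG_abelian_exp hp chain_cert.2.1 h2
    rwa [← pow_mul, ← pow_mul] at this

/-- the exponent of the radicals of the maximal parabolics -/
theorem Ui_pow (hp3 : p ≠ 3) (i : Si) {g : Grp F} (hg : g ∈ (R F).Ui i) :
    g ^ (if p = 2 then 4 else p) = 1 := by
  have h2' : p = 2 → ((2 : ℕ) : F) = 0 := fun h => by subst h; exact CharP.cast_eq_zero F 2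
  have hp2 := hp.two_le
  have hp5 : p ≠ 2 → 5 ≤ p := fun h => by
    by_contra hc
    interval_cases p <;> first | omega | norm_num at hp
  fin_cases i
  · have hg' := Ui0_le hg
    split_ifs with h
    · have h2 := pow_mem_of_commutator
        (XG_normalizes (F := F) (h2' h) chain_cert.2.2.2.2.2.1)
        (fun a ha b hb => comm_mem (h2' h) chain_cert.2.2.2.2.1 ha hb)
        (fun a ha => by rw [gens_pow hp ha]; exact one_mem _) (n := p) hg'
      have := XG_abelian_exp hp chain_cert.2.1 h2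
      rw [← pow_mul, h] at this
      exact this
    · exact chain_exp hp [ra, [11]] (by have := hp5 h; simp; omega)
        (fun _ hz => XG_abelian_exp hp chain_cert.2.1 hz) (chain_cert.1 _ (by simp)) hg'
  · have hg' := Ui1_le hg
    split_ifs with h
    · have h2 := pow_mem_of_commutator
        (XG_normalizes (F := F) (h2' h) chain_cert.2.2.2.2.2.2.2.1)
        (fun a ha b hb => comm_mem (h2' h) chain_cert.2.2.2.2.2.2.1 ha hb)
        (fun a ha => by rw [gens_pow hp ha]; exact one_mem _) (n := p) hg'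
      have := XG_abelian_exp hp chain_cert.2.2.2.1 h2
      rw [← pow_mul, h] at this
      exact this
    · exact chain_exp hp [rb, [9, 10, 11], [10, 11]] (by have := hp5 h; simp; omega)
        (fun _ hz => XG_abelian_exp hp chain_cert.2.2.1 hz) (chain_cert.1 _ (by simp)) hg'

end exponent

theorem Ui_normal {i : Si} {b u : Grp F} (hb : b ∈ (R F).B) (hu : u ∈ (R F).Ui i) :
    b * u * b⁻¹ ∈ (R F).Ui i := by
  obtain ⟨v, hv, h, hh, t, rfl⟩ := (R F).B_decomp i hb
  have h1 := (R F).H_conj_Ui i hh ((R F).x_conj_Ui i t hu)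
  have h2 := mul_mem (mul_mem hv h1) (inv_mem hv)
  simpa [mul_assoc, _root_.mul_inv_rev] using h2

theorem U_normal {b u : Grp F} (hb : b ∈ (R F).B) (hu : u ∈ (R F).U) : b * u * b⁻¹ ∈ (R F).U := by
  obtain ⟨v, hv, h, hh, rfl⟩ := (R F).mem_B_iff.1 hb
  have h1 := (Subgroup.mem_normalizer_iff.1 ((R F).H_le_normalizer_U hh) u).1 hu
  have h2 := mul_mem (mul_mem hv h1) (inv_mem hv)
  simpa [mul_assoc, _root_.mul_inv_rev] using h2

/-- A unipotent element outside both radicals fixes only the base point. -/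
theorem mem_B_of_commute {u g : Grp F} (hu : u ∈ (R F).U) (hreg : ∀ i, u ∉ (R F).Ui i)
    (e : g * u = u * g) : g ∈ (R F).B := by
  obtain ⟨b₁, hb₁, w, hw, b₂, hb₂, rfl⟩ := exists_bruhat g
  cases w with
  | nil => exact mul_mem (mul_mem hb₁ (one_mem _)) hb₂
  | cons i v =>
    exfalso
    set u' := b₂ * u * b₂⁻¹ with hu'
    set u'' := b₁⁻¹ * u * b₁ with hu''
    have hu'U : u' ∈ (R F).U := U_normal hb₂ hu
    have hu''U : u'' ∈ (R F).U := by
      have := U_normal (inv_mem hb₁) hu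
      rwa [inv_inv] at this
    have hkey : ((R F).n i)⁻¹ * u'' * (R F).n i =
        (R F).nw v * u' * ((R F).nw v)⁻¹ := by
      have h1 : nwG (i :: v) * u' = u'' * nwG (i :: v) := by
        calc nwG (i :: v) * u' = b₁⁻¹ * (b₁ * nwG (i :: v) * b₂ * u) * b₂⁻¹ := by rw [hu']; group
          _ = _ := by rw [e, hu'']; group
      have h2 : nwG (i :: v) = (R F).n i * (R F).nw v := (R F).nw_cons i v
      rw [h2] at h1
      calc ((R F).n i)⁻¹ * u'' * (R F).n i =
          ((R F).n i)⁻¹ * (u'' * ((R F).n i * (R F).nw v)) * ((R F).nw v)⁻¹ := by group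
        _ = _ := by rw [← h1]; group
    obtain ⟨t, u₃, hu₃, he⟩ := (R F).U_decomp' i hu''U
    by_cases ht : t = 0
    · refine hreg i ?_
      rw [ht, (R F).x_zero, one_mul] at he
      have := Ui_normal hb₁ (he ▸ hu₃ : u'' ∈ (R F).Ui i)
      rwa [hu'', show b₁ * (b₁⁻¹ * u * b₁) * b₁⁻¹ = u by group] at this
    · obtain ⟨c₁, hc₁, c₂, hc₂, hc⟩ := (R F).n_conj_x_mem_BnB i ht
      set m := ((R F).n i * (R F).n i)⁻¹ with hm
      have h2 : ((R F).n i)⁻¹ * u'' * (R F).n i = (m * c₁) * (R F).n i *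
          (c₂ * m⁻¹ * (((R F).n i)⁻¹ * u₃ * (R F).n i)) := by
        rw [he, show ((R F).n i)⁻¹ * ((R F).x (TypeG2.model.S.simple i) t * u₃) * (R F).n i =
          m * ((R F).n i * (R F).x (TypeG2.model.S.simple i) t * ((R F).n i)⁻¹) * m⁻¹ *
            (((R F).n i)⁻¹ * u₃ * (R F).n i) by rw [hm]; group, hc]
        group
      have hmB : m ∈ (R F).B := (R F).H_le_B (inv_mem ((R F).n_sq_mem_H i))
      have hA := ((R F).up_of_pos hw.1).smul (mul_mem hmB hc₁)
        (mul_mem (mul_mem hc₂ (inv_mem hmB)) ((R F).U_le_B ((R F).Ui_le_U i ((R F).n_inv_conj_Ui i hu₃))))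
        (self_mem_cell (R F).B (R F).B ((R F).nw v))
      rw [← h2, hkey] at hA
      have hfix : ((R F).nw v * u' * ((R F).nw v)⁻¹) • ((R F).nw v : Grp F ⧸ (R F).B) =
          ((R F).nw v : Grp F ⧸ (R F).B) := by
        show (((R F).nw v * u' * ((R F).nw v)⁻¹ * (R F).nw v : Grp F) : Grp F ⧸ (R F).B) = _
        refine QuotientGroup.eq.2 ?_
        have := inv_mem ((R F).U_le_B hu'U)
        simpa [mul_assoc, _root_.mul_inv_rev] using this
      rw [hfix] at hA
      have hcell := cell_eq_of_mem hA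
      set M := TypeG2.model.shapeR (relsOfCommGood uGoodG2.toCommGood F)
      have hP : ∀ x ∈ (R F).B, M.Pres TypeG2.model.S.pos x := fun x hx =>
        M.pres_par (J := []) (fun a c ha => TypeG2.model.pres_posList _ TypeG2.pos_span a c ha)
          (fun j hj => by simp at hj) ((R F).B_le_par _ hx)
      obtain ⟨s, hs, he⟩ := M.image_of_cell_eq hP hcell.symm _ hw.1
      replace he := ((congrArg (TypeG2.model.S.refl i) (RootIdx.actw_reverse _ v _)).trans
        (TypeG2.model.S.refl_simple i)).symm.trans he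
      have h3 : s = TypeG2.model.S.neg (TypeG2.model.S.actw v.reverse (TypeG2.model.S.simple i)) := by
        exact ((RootIdx.actw_reverse' _ v s).symm.trans
          (congrArg (TypeG2.model.S.actw v.reverse) he.symm)).trans (RootIdx.actw_neg _ _ _)
      exact TypeG2.model.S.not_pos_neg _ hw.1 (h3 ▸ hs)

theorem killedU_le_Ui {t : Grp F} (ht : t ∈ (R F).H) (ht1 : t ≠ 1) :
    ∃ i : Si, killedU t ≤ (R F).Ui i := by
  have hex : ∃ i : Si, χ t (TypeG2.model.S.simple i) ≠ 1 := by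
    by_contra hcon
    push Not at hcon
    have h0 := hcon 0
    have h1 := hcon 1
    refine ht1 ?_
    have e0 : (TypeG2.model.S.simple (0 : Si) : Rt) = 7 := Fin.ext simple_val.1
    have e1 : (TypeG2.model.S.simple (1 : Si) : Rt) = 6 := Fin.ext simple_val.2
    rw [e0] at h0
    rw [e1] at h1
    replace h0 := Units.val_eq_one.1 ((chi_eq ⟨t, ht⟩ 7).symm.trans h0)
    replace h1 := Units.val_eq_one.1 ((chi_eq ⟨t, ht⟩ 6).symm.trans h1)
    simpa using pow_eq_one_of ht (n := 1) (of_basis (n := 1) (by simpa using h0) (by simpa using h1))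
  obtain ⟨i, hi⟩ := hex
  refine ⟨i, (Subgroup.closure_le _).2 ?_⟩
  rintro _ ⟨r, hr, c, hk, rfl⟩
  exact Subgroup.subset_closure ⟨r, c, pos_of_posR hr, fun h => hi (h ▸ hk), rfl⟩

end Cfsg.Agent.G2Orders80
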