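import Cfsg.Agent.ChevGroup.Mat.G2
import Mathlib

/-!
Exponent lattice of the root system of type G2: relations between the values of a torus character
pair at the roots, stabilisers, and the annihilators of Frobenius-twisted elements.
-/

set_option autoImplicit false

namespace Cfsg.Agent.G2Orders80

open Cfsg.Agent.ChevGroup

/-- roots of type G2 -/
abbrev Rt : Type := Fin 12

/-- fundamental reflections of type G2 -/
abbrev Si : Type := Fin 2

/-- the two fundamental reflections on the roots -/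
def reflT (i : Si) (s : Rt) : Rt :=
  if i = 0 then ([0, 5, 3, 2, 7, 1, 10, 4, 9, 8, 6, 11] : List Rt).getD s.val 0
  else ([1, 0, 2, 4, 3, 6, 5, 8, 7, 9, 11, 10] : List Rt).getD s.val 0

/-- the action of a word on the roots -/
def wact : List Si → Rt → Rt
  | [], s => s
  | i :: w, s => reflT i (wact w s)

theorem refl_val : ∀ (i : Si) (s : Rt),
    Fin.val (TypeG2.model.S.refl i s) = (reflT i s).val := by decide +kernel

theorem refl_eq (i : Si) (s : Rt) : TypeG2.model.S.refl i s = reflT i s := Fin.ext (refl_val i s)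

theorem actw_eq : ∀ (w : List Si) (s : Rt), TypeG2.model.S.actw w s = wact w s
  | [], _ => rfl
  | i :: w, s => by
    show TypeG2.model.S.refl i (TypeG2.model.S.actw w s) = reflT i (wact w s)
    rw [actw_eq w s]
    exact refl_eq i _

theorem wact_append : ∀ (v w : List Si) (s : Rt), wact (v ++ w) s = wact v (wact w s)
  | [], _, _ => rfl
  | i :: v, w, s => congrArg (reflT i) (wact_append v w s)

/-- coordinates of the twelve roots on the fundamental roots (short, long) -/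
def cfv (s : Rt) : ℤ × ℤ :=
  [((-3 : ℤ), (-2 : ℤ)), (-3, -1), (-2, -1), (-1, -1), (-1, 0), (0, -1),
    (0, 1), (1, 0), (1, 1), (2, 1), (3, 1), (3, 2)].getD s.val (0, 0)

/-- the twelve elements of the Weyl group -/
def wList : List (List Si) :=
  [[], [0], [1], [0, 1], [1, 0], [0, 1, 0], [1, 0, 1], [0, 1, 0, 1], [1, 0, 1, 0],
    [0, 1, 0, 1, 0], [1, 0, 1, 0, 1], [1, 0, 1, 0, 1, 0]]

/-- the positive roots -/
def posR : List Rt := [6, 7, 8, 9, 10, 11]

/-- pairs of orthogonal positive roots -/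
def orthPairs : List (Rt × Rt) := [(7, 11), (8, 10), (9, 6)]

theorem wList_closed : ∀ i : Si, ∀ w ∈ wList, ∃ v ∈ wList, ∀ s : Rt,
    reflT i (wact w s) = wact v s := by decide +kernel

theorem exists_wList : ∀ w : List Si, ∃ v ∈ wList, ∀ s : Rt, wact w s = wact v s
  | [] => ⟨[], by decide, fun _ => rfl⟩
  | i :: w => by
    obtain ⟨v, hv, e⟩ := exists_wList w
    obtain ⟨v', hv', e'⟩ := wList_closed i v hv
    exact ⟨v', hv', fun s => by rw [wact, e s, e' s]⟩

/-- the determinant of two exponent vectors -/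
def det2 (z z' : ℤ × ℤ) : ℤ := z.1 * z'.2 - z.2 * z'.1

variable {M : Type*} [CommGroup M] (a b : M)

/-- the value of an exponent vector -/
def ev2 (z : ℤ × ℤ) : M := a ^ z.1 * b ^ z.2

theorem ev2_add (z z' : ℤ × ℤ) : ev2 a b (z + z') = ev2 a b z * ev2 a b z' := by
  simp [ev2, _root_.zpow_add, mul_mul_mul_comm]

theorem ev2_neg (z : ℤ × ℤ) : ev2 a b (-z) = (ev2 a b z)⁻¹ := by
  simp [ev2, _root_.zpow_neg, mul_comm]

theorem ev2_sub (z z' : ℤ × ℤ) : ev2 a b (z - z') = ev2 a b z / ev2 a b z' := by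
  rw [sub_eq_add_neg, ev2_add, ev2_neg, div_eq_mul_inv]

theorem ev2_zsmul (k : ℤ) (z : ℤ × ℤ) : ev2 a b (k • z) = ev2 a b z ^ k := by
  simp [ev2, _root_.mul_zpow, ← _root_.zpow_mul, mul_comm k]

theorem ev2_zero : ev2 a b 0 = 1 := by simp [ev2]

theorem ev2_det {z z' : ℤ × ℤ} (h : ev2 a b z = 1) (h' : ev2 a b z' = 1) :
    a ^ det2 z z' = 1 ∧ b ^ det2 z z' = 1 := by
  constructor
  · have : ev2 a b (z'.2 • z + -z.2 • z') = 1 := by
      rw [ev2_add, ev2_zsmul, ev2_zsmul, h, h', one_zpow, one_zpow, one_mul]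
    have e : z'.2 • z + -z.2 • z' = (det2 z z', 0) := by
      refine Prod.ext ?_ ?_ <;> simp [det2] <;> ring
    rw [e] at this
    simpa [ev2] using this
  · have : ev2 a b (z.1 • z' + -z'.1 • z) = 1 := by
      rw [ev2_add, ev2_zsmul, ev2_zsmul, h, h', one_zpow, one_zpow, one_mul]
    have e : z.1 • z' + -z'.1 • z = (0, det2 z z') := by
      refine Prod.ext ?_ ?_ <;> simp [det2] <;> ring
    rw [e] at this
    simpa [ev2] using this

theorem eq_one_of_zpow {x : M} {d : ℤ} (hd : d = 1 ∨ d = -1) (h : x ^ d = 1) : x = 1 := by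
  rcases hd with rfl | rfl
  · simpa using h
  · simpa using h

theorem pow_three_of_zpow {x : M} {d : ℤ} (hd : d = 1 ∨ d = -1 ∨ d = 3 ∨ d = -3) (h : x ^ d = 1) :
    x ^ 3 = 1 := by
  rcases hd with rfl | rfl | rfl | rfl <;> simp at h
  · simp [h]
  · simp [h]
  · exact_mod_cast h
  · exact h

theorem killed_cert : ∀ s ∈ posR, ∀ r ∈ posR, r = s ∨ (s, r) ∈ orthPairs ∨ (r, s) ∈ orthPairs ∨
    det2 (cfv s) (cfv r) ∈ [(1 : ℤ), -1, 3, -3] := by decide +kernel

theorem pair_exists : ∀ s ∈ posR, ∃ P ∈ orthPairs,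
    ∀ r ∈ posR, (r = s ∨ (s, r) ∈ orthPairs ∨ (r, s) ∈ orthPairs) → r = P.1 ∨ r = P.2 := by
  decide +kernel

/-- The positive roots killed by an element of order not dividing three are mutually orthogonal. -/
theorem exists_pair (h3 : ¬ (a ^ 3 = 1 ∧ b ^ 3 = 1)) : ∃ P ∈ orthPairs,
    ∀ r ∈ posR, ev2 a b (cfv r) = 1 → r = P.1 ∨ r = P.2 := by
  by_cases hK : ∃ s ∈ posR, ev2 a b (cfv s) = 1
  · obtain ⟨s, hs, h⟩ := hK
    obtain ⟨P, hP, hP'⟩ := pair_exists s hs
    refine ⟨P, hP, fun r hr hr1 => hP' r hr ?_⟩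
    rcases killed_cert s hs r hr with h1 | h1 | h1 | h1
    · exact Or.inl h1
    · exact Or.inr (Or.inl h1)
    · exact Or.inr (Or.inr h1)
    · exfalso
      obtain ⟨ha, hb⟩ := ev2_det a b h hr1
      simp only [List.mem_cons, List.not_mem_nil, or_false] at h1
      exact h3 ⟨pow_three_of_zpow h1 ha, pow_three_of_zpow h1 hb⟩
  · exact ⟨(7, 11), by decide, fun r hr h => absurd ⟨r, hr, h⟩ hK⟩

/-- reflections in the positive roots -/
def reflWord (r : Rt) : List Si :=
  [[1], [0], [1, 0, 1], [0, 1, 0, 1, 0], [1, 0, 1, 0, 1], [0, 1, 0]].getD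
    ([0, 0, 0, 0, 0, 0, 0, 1, 2, 3, 5, 4].getD r.val 0) []

/-- the group generated by the reflections in a pair of orthogonal roots -/
def pairWords (P : Rt × Rt) : List (List Si) :=
  [[], reflWord P.1, reflWord P.2, reflWord P.1 ++ reflWord P.2]

theorem stab_cert : ∀ w ∈ wList, ∀ P ∈ orthPairs,
    (∃ v ∈ pairWords P, ∀ s : Rt, wact w s = wact v s) ∨
      (∃ s r : Rt, det2 (cfv (wact w s) - cfv s) (cfv (wact w r) - cfv r) ∈ [(1 : ℤ), -1, 3, -3]) ∨
      ∃ s : Rt, ∃ r ∈ posR, r ≠ P.1 ∧ r ≠ P.2 ∧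
        (cfv (wact w s) - cfv s = cfv r ∨ cfv (wact w s) - cfv s = -cfv r) := by
  decide +kernel

/-- The stabiliser of an element is generated by reflections in killed roots. -/
theorem stab_pair (h3 : ¬ (a ^ 3 = 1 ∧ b ^ 3 = 1)) {P : Rt × Rt} (hP : P ∈ orthPairs)
    (hK : ∀ r ∈ posR, ev2 a b (cfv r) = 1 → r = P.1 ∨ r = P.2) (w : List Si)
    (hw : ∀ s, ev2 a b (cfv (wact w s)) = ev2 a b (cfv s)) :
    ∃ v ∈ pairWords P, ∀ s, wact w s = wact v s := by
  obtain ⟨u, hu, e⟩ := exists_wList w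
  have hd : ∀ s, ev2 a b (cfv (wact u s) - cfv s) = 1 := fun s => by
    rw [ev2_sub, ← e s, hw s, div_self']
  rcases stab_cert u hu P hP with ⟨v, hv, hv'⟩ | ⟨s, r, h⟩ | ⟨s, r, hr, h1, h2, h⟩
  · exact ⟨v, hv, fun s => (e s).trans (hv' s)⟩
  · exfalso
    obtain ⟨ha, hb⟩ := ev2_det a b (hd s) (hd r)
    simp only [List.mem_cons, List.not_mem_nil, or_false] at h
    exact h3 ⟨pow_three_of_zpow h ha, pow_three_of_zpow h hb⟩
  · exfalso
    have hr1 : ev2 a b (cfv r) = 1 := by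
      rcases h with h | h
      · rw [← h]; exact hd s
      · rw [← neg_neg (cfv r), ev2_neg, ← h, hd s, inv_one]
    rcases hK r hr hr1 with h' | h'
    · exact h1 h'
    · exact h2 h'

/-- the possible annihilators -/
theorem frob_cert : ∀ w ∈ wList,
    (∀ s : Rt, wact w s = s) ∨ (∀ s : Rt, cfv (wact w s) = -cfv s) ∨
    (∀ s : Rt, wact w (wact w s) = s) ∨
    (∀ s : Rt, cfv s + cfv (wact w s) + cfv (wact w (wact w s)) = 0) ∨
    (∀ s : Rt, cfv s + cfv (wact w (wact w s)) = cfv (wact w s)) := by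
  decide +kernel

theorem wact_surj : ∀ w ∈ wList, ∀ i ∈ [(7 : Rt), 6], ∃ s : Rt, wact w (wact w s) = i := by
  decide +kernel

variable {a b}

theorem of_basis {n : ℕ} (h : ev2 a b (cfv 7) ^ n = 1) (h' : ev2 a b (cfv 6) ^ n = 1) :
    a ^ n = 1 ∧ b ^ n = 1 := by
  have e7 : cfv 7 = (1, 0) := by decide
  have e6 : cfv 6 = (0, 1) := by decide
  rw [e7] at h; rw [e6] at h'
  simp [ev2] at h h'
  exact ⟨h, h'⟩

/-- A pair twisted by a Weyl group element and Frobenius is killed by one of five numbers. -/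
theorem frob_annihilator {q : ℕ} (hq : 1 ≤ q) (w : List Si)
    (hw : ∀ s, ev2 a b (cfv (wact w s)) ^ q = ev2 a b (cfv s)) :
    ∃ N ∈ [q - 1, q + 1, q ^ 2 - 1, q ^ 2 + q + 1, q ^ 2 - q + 1], a ^ N = 1 ∧ b ^ N = 1 := by
  obtain ⟨u, hu, e⟩ := exists_wList w
  set f := fun s => ev2 a b (cfv s) with hf
  have hu' : ∀ s, f (wact u s) ^ q = f s := fun s => by
    simp only [hf]; rw [← e s, hw s]
  have hq2 : 1 ≤ q ^ 2 := Nat.one_le_pow _ _ hq
  rcases frob_cert u hu with h | h | h | h | h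
  · refine ⟨q - 1, by simp, ?_⟩
    have key : ∀ s, f s ^ (q - 1) = 1 := fun s => by
      have h1 := hu' s
      rw [h s, show q = q - 1 + 1 by omega, pow_succ] at h1
      exact mul_eq_right.1 h1
    exact of_basis (key 7) (key 6)
  · refine ⟨q + 1, by simp, ?_⟩
    have key : ∀ s, f s ^ (q + 1) = 1 := fun s => by
      have h1 := hu' s
      have h2 : f (wact u s) = (f s)⁻¹ := by simp only [hf]; rw [h s, ev2_neg]
      rw [h2, inv_pow, inv_eq_iff_mul_eq_one] at h1
      rw [pow_succ, h1]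
    exact of_basis (key 7) (key 6)
  · refine ⟨q ^ 2 - 1, by simp, ?_⟩
    have key : ∀ s, f s ^ (q ^ 2 - 1) = 1 := fun s => by
      have h1 : f (wact u (wact u s)) ^ (q ^ 2) = f s := by
        rw [pow_two, pow_mul, hu', hu']
      rw [h s, show q ^ 2 = q ^ 2 - 1 + 1 by omega, pow_succ] at h1
      exact mul_eq_right.1 h1
    exact of_basis (key 7) (key 6)
  · refine ⟨q ^ 2 + q + 1, by simp, ?_⟩
    have key : ∀ s, f (wact u (wact u s)) ^ (q ^ 2 + q + 1) = 1 := fun s => by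
      have h1 : ev2 a b (cfv s + cfv (wact u s) + cfv (wact u (wact u s))) = 1 := by
        rw [h s, ev2_zero]
      rw [ev2_add, ev2_add] at h1
      change f s * f (wact u s) * f (wact u (wact u s)) = 1 at h1
      rw [← hu' s, ← hu' (wact u s), ← pow_mul, ← pow_add, ← pow_succ] at h1
      rw [pow_two]
      exact h1
    obtain ⟨s, hs⟩ := wact_surj u hu 7 (by simp)
    obtain ⟨r, hr⟩ := wact_surj u hu 6 (by simp)
    exact of_basis (hs ▸ key s) (hr ▸ key r)
  · refine ⟨q ^ 2 - q + 1, by simp, ?_⟩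
    have key : ∀ s, f (wact u (wact u s)) ^ (q ^ 2 - q + 1) = 1 := fun s => by
      have h1 : ev2 a b (cfv s + cfv (wact u (wact u s))) = ev2 a b (cfv (wact u s)) := by rw [h s]
      rw [ev2_add] at h1
      change f s * f (wact u (wact u s)) = f (wact u s) at h1
      rw [← hu' s, ← hu' (wact u s), ← pow_mul, ← pow_succ] at h1
      have hqq : q ≤ q * q := Nat.le_mul_self q
      rw [show q * q + 1 = (q ^ 2 - q + 1) + q by rw [pow_two]; omega, pow_add] at h1
      exact mul_eq_right.1 h1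
    obtain ⟨s, hs⟩ := wact_surj u hu 7 (by simp)
    obtain ⟨r, hr⟩ := wact_surj u hu 6 (by simp)
    exact of_basis (hs ▸ key s) (hr ▸ key r)

theorem bezout_cert : ∀ r ∈ posR, ∃ u ∈ [(-2 : ℤ), -1, 0, 1, 2], ∃ v ∈ [(-2 : ℤ), -1, 0, 1, 2],
    u * (cfv r).1 + v * (cfv r).2 = 1 := by decide +kernel

theorem ev2_eq_one_of_det {r : Rt} (hr : r ∈ posR) (h : ev2 a b (cfv r) = 1) {z : ℤ × ℤ}
    (hz : det2 z (cfv r) = 0) : ev2 a b z = 1 := by
  obtain ⟨u, -, v, -, huv⟩ := bezout_cert r hr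
  have e : z = (u * z.1 + v * z.2) • cfv r := by
    simp only [det2] at hz
    ext
    · simp; linear_combination (-z.1) * huv + v * hz
    · simp; linear_combination (-z.2) * huv - u * hz
  rw [e, ev2_zsmul, h, one_zpow]

theorem frob_cert_killed : ∀ w ∈ wList, ∀ r ∈ posR,
    (∀ s : Rt, det2 (cfv (wact w s) - cfv s) (cfv r) = 0) ∨
    (∀ s : Rt, det2 (cfv (wact w s) + cfv s) (cfv r) = 0) ∨
    det2 (cfv r) (cfv (wact w r)) ∈ [(1 : ℤ), -1, 2, -2, 3, -3] := by
  decide +kernel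

theorem frob_killed {q : ℕ} (hq : 1 ≤ q) (hinj : ∀ x : M, x ^ q = 1 → x = 1) (w : List Si)
    (hw : ∀ s, ev2 a b (cfv (wact w s)) ^ q = ev2 a b (cfv s)) {r : Rt} (hr : r ∈ posR)
    (hk : ev2 a b (cfv r) = 1) :
    ∃ N ∈ [q - 1, q + 1, 2, 3], a ^ N = 1 ∧ b ^ N = 1 := by
  obtain ⟨u, hu, e⟩ := exists_wList w
  set f := fun s => ev2 a b (cfv s) with hf
  have hu' : ∀ s, f (wact u s) ^ q = f s := fun s => by
    simp only [hf]; rw [← e s, hw s]
  rcases frob_cert_killed u hu r hr with h | h | h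
  · refine ⟨q - 1, by simp, ?_⟩
    have key : ∀ s, f s ^ (q - 1) = 1 := fun s => by
      have h1 := hu' s
      have h2 := ev2_eq_one_of_det hr hk (h s)
      rw [ev2_sub, div_eq_one] at h2
      change f (wact u s) = f s at h2
      rw [h2, show q = q - 1 + 1 by omega, pow_succ] at h1
      exact mul_eq_right.1 h1
    exact of_basis (key 7) (key 6)
  · refine ⟨q + 1, by simp, ?_⟩
    have key : ∀ s, f s ^ (q + 1) = 1 := fun s => by
      have h1 := hu' s
      have h2 := ev2_eq_one_of_det hr hk (h s)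
      rw [ev2_add] at h2
      change f (wact u s) * f s = 1 at h2
      rw [eq_inv_of_mul_eq_one_left h2, inv_pow, inv_eq_iff_mul_eq_one] at h1
      rw [pow_succ, h1]
    exact of_basis (key 7) (key 6)
  · have h1 : f (wact u r) = 1 := hinj _ (by rw [hu' r]; exact hk)
    obtain ⟨ha, hb⟩ := ev2_det a b hk h1
    simp only [List.mem_cons, List.not_mem_nil, or_false] at h
    have key : ∀ {x : M} {d : ℤ}, x ^ d = 1 → x ^ d.natAbs = 1 := fun {x d} hx => by
      rcases Int.natAbs_eq d with hd | hd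
      · rw [hd, zpow_natCast] at hx; exact hx
      · rw [hd, _root_.zpow_neg, inv_eq_one, zpow_natCast] at hx; exact hx
    have ha' := key ha
    have hb' := key hb
    rcases h with h | h | h | h | h | h <;> rw [h] at ha' hb' <;> simp at ha' hb'
    · exact ⟨2, by simp, by simp [ha'], by simp [hb']⟩
    · exact ⟨2, by simp, by simp [ha'], by simp [hb']⟩
    · exact ⟨2, by simp, ha', hb'⟩
    · exact ⟨2, by simp, ha', hb'⟩
    · exact ⟨3, by simp, ha', hb'⟩
    · exact ⟨3, by simp, ha', hb'⟩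

end Cfsg.Agent.G2Orders80
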