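import Cfsg.Agent.ChevTori.Group
import Cfsg.Agent.ChevFixed.G2
import Cfsg.Agent.ChevGroup.Mat.OrderG2
import Cfsg.Agent.G2Orders80.Lattice

/-!
The Chevalley group of type G2 over a field: torus coordinates and maps along field embeddings.
-/

set_option autoImplicit false

namespace Cfsg.Agent.G2Orders80

open Cfsg.Lie Cfsg.Agent.ChevGroup Cfsg.Agent.ChevCore

universe u v

/-- the Chevalley group of type G2 -/
abbrev Grp (F : Type u) [Field F] : Type u := ↥(chevG2.group F)

/-- the root relations -/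
noncomputable abbrev R (F : Type u) [Field F] :
    RootRel (Grp F) F TypeG2.model.S := ChevTori.rr TypeG2.model uGoodG2

variable {F : Type u} [Field F]

/-- root element -/
noncomputable abbrev X (s : Rt) (c : F) : Grp F := (R F).x s c

theorem val_X (s : Rt) (c : F) : ((X s c : Grp F) : GL chevG2.Idx F) = xg chevG2 F s.val c :=
  ChevTori.val_x TypeG2.model uGoodG2 s c

theorem X_inj (s : Rt) {c d : F} (h : (X s c : Grp F) = X s d) : c = d :=
  ChevTori.x_inj TypeG2.model uGoodG2 s h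

/-- the value of a diagonal element at a root -/
noncomputable abbrev χ (t : Grp F) (s : Rt) : F := ChevTori.chi TypeG2.model t s

theorem conj_X {t : Grp F} (ht : t ∈ (R F).H) (s : Rt) (c : F) :
    t * X s c * t⁻¹ = X s (χ t s * c) :=
  ChevTori.conj_x TypeG2.model uGoodG2 ht s c

/-- the coordinates of a diagonal element on the fundamental roots -/
noncomputable def psi2 : ↥(R F).H →* Fˣ × Fˣ where
  toFun t := (ChevTori.psi TypeG2.model uGoodG2 t (0 : Si), ChevTori.psi TypeG2.model uGoodG2 t (1 : Si))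
  map_one' := by rw [map_one]; rfl
  map_mul' a b := by rw [map_mul]; rfl

theorem cf_val : ∀ (s : Rt),
    coef chevG2 s.val 0 = (cfv s).1 ∧ coef chevG2 s.val 1 = (cfv s).2 := by decide +kernel

theorem chi_eq (t : ↥(R F).H) (s : Rt) :
    χ t.1 s = ((ev2 (psi2 t).1 (psi2 t).2 (cfv s) : Fˣ) : F) := by
  refine (ChevTori.chi_cf TypeG2.model uGoodG2 t s).trans (congrArg Units.val ?_)
  refine (Fin.prod_univ_two (f := fun j : Fin 2 =>
    ChevTori.psi TypeG2.model uGoodG2 t j ^ ChevTori.cf TypeG2.model s j)).trans ?_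
  have h := cf_val s
  show _ = ev2 _ _ _
  rw [ev2, ← h.1, ← h.2]
  rfl

theorem psi2_injective : Function.Injective (psi2 (F := F)) := by
  intro a b h
  refine ChevTori.psi_injective TypeG2.model uGoodG2 (funext ?_)
  show ∀ j : Fin 2, _
  rw [Fin.forall_fin_two]
  exact ⟨congrArg Prod.fst h, congrArg Prod.snd h⟩

theorem pow_eq_one_of {t : Grp F} (ht : t ∈ (R F).H) {n : ℕ}
    (h : (psi2 ⟨t, ht⟩).1 ^ n = 1 ∧ (psi2 ⟨t, ht⟩).2 ^ n = 1) : t ^ n = 1 := by
  have h1 : (⟨t, ht⟩ : ↥(R F).H) ^ n = 1 := psi2_injective (by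
    rw [map_pow, map_one]
    exact Prod.ext h.1 h.2)
  exact congrArg Subtype.val h1

theorem psi2_pow_of {t : Grp F} (ht : t ∈ (R F).H) {n : ℕ} (h : t ^ n = 1) :
    (psi2 ⟨t, ht⟩).1 ^ n = 1 ∧ (psi2 ⟨t, ht⟩).2 ^ n = 1 := by
  have h1 : psi2 ((⟨t, ht⟩ : ↥(R F).H) ^ n) = 1 := by
    rw [show (⟨t, ht⟩ : ↥(R F).H) ^ n = 1 from Subtype.ext h, map_one]
  rw [map_pow] at h1
  exact ⟨congrArg Prod.fst h1, congrArg Prod.snd h1⟩

theorem H_commute {a b : Grp F} (ha : a ∈ (R F).H) (hb : b ∈ (R F).H) : a * b = b * a :=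
  ChevTori.H_commute TypeG2.model uGoodG2 ha hb

/-- the product of the fundamental monomial elements along a word -/
noncomputable def nwG (w : List Si) : Grp F := (R F).nw w

theorem nwG_eq (w : List Si) : (nwG w : Grp F) = (R F).nw w := rfl

theorem nwG_append (v w : List Si) : (nwG (v ++ w) : Grp F) = nwG v * nwG w := (R F).nw_append v w

theorem chi_conj (w : List Si) {t : Grp F} (ht : t ∈ (R F).H) (s : Rt) :
    χ (nwG w * t * (nwG w)⁻¹) (wact w s) = χ t s := by
  have h := ChevTori.chi_conj TypeG2.model uGoodG2 w ht s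
  exact (congrArg (χ _) (actw_eq w s)).symm.trans h

theorem nw_mem_H {w : List Si} (h : ∀ s, wact w s = s) : (nwG w : Grp F) ∈ (R F).H :=
  (TypeG2.model.shapeR _).nw_mem_H (fun r t => TypeG2.model.x_ne _ r t) fun s => by
    exact (actw_eq w s).trans (h s)

theorem exists_bruhat (g : Grp F) :
    ∃ b ∈ (R F).B, ∃ w : List Si, TypeG2.model.S.Red w ∧ ∃ b' ∈ (R F).B, g = b * nwG w * b' :=
  (R F).exists_bruhat ((TypeG2.model.group_top (relsOfCommGood uGoodG2.toCommGood F)
    TypeG2.wit_ok).symm ▸ Subgroup.mem_top g)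

/-! ### finite fields -/

section finite

variable [Fintype F]

theorem card_group : Nat.card (Grp F) =
    Fintype.card F ^ 6 * (Fintype.card F ^ 2 - 1) * (Fintype.card F ^ 6 - 1) :=
  TypeG2.card_group (torusFacts_of_good uGoodG2.toCommGood.toGood)
    (relsOfCommGood uGoodG2.toCommGood F) rfl

theorem card_H : Nat.card ↥(R F).H = (Fintype.card F - 1) ^ 2 :=
  (TypeG2.model.card_H_eq (relsOfCommGood uGoodG2.toCommGood F)).symm.trans
    (ChevFixed.TypeG2.card_torus (torusFacts_of_good uGoodG2.toCommGood.toGood)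
      (relsOfCommGood uGoodG2.toCommGood F))

theorem card_U : Nat.card ↥(R F).U = Fintype.card F ^ 6 :=
  (TypeG2.model.card_U_eq (relsOfCommGood uGoodG2.toCommGood F)).symm.trans
    (uGoodG2.card_posUnipotent.trans rfl)

theorem psi2_surjective : Function.Surjective (psi2 (F := F)) := by
  classical
  refine (psi2_injective.bijective_of_nat_card_le ?_).2
  rw [card_H, Nat.card_prod, Nat.card_eq_fintype_card, Fintype.card_units, pow_two]

theorem pow_card_sub_one {t : Grp F} (ht : t ∈ (R F).H) : t ^ (Fintype.card F - 1) = 1 :=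
  ChevTori.pow_card_sub_one TypeG2.model uGoodG2 ht

theorem conj_key {t t' b₁ b₂ : Grp F} (w : List Si) (ht : t ∈ (R F).H) (ht' : t' ∈ (R F).H)
    (hb₁ : b₁ ∈ (R F).B) (hb₂ : b₂ ∈ (R F).B)
    (e : b₁ * nwG w * b₂ * t = t' * (b₁ * nwG w * b₂)) :
    nwG w * t * (nwG w)⁻¹ = t' :=
  ChevTori.conj_key TypeG2.model uGoodG2 TypeG2.longest_ok TypeG2.pos_span w ht ht' hb₁ hb₂ e

end finite

/-! ### field embeddings -/

section map

variable {L : Type v} [Field L] (i : F →+* L)

/-- the map of groups along a field embedding -/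
noncomputable abbrev gmap : Grp F →* Grp L := ChevFixed.mapGroup (D := chevG2) i

theorem gmap_X (s : Rt) (c : F) : gmap i (X s c) = X s (i c) :=
  Model.mat_inj (ChevFixed.x_map i s.val c)

theorem gmap_injective : Function.Injective (gmap i) := ChevFixed.mapGroup_injective i

theorem gmap_nr (s : Rt) (c : F) : gmap i ((R F).nr s c) = (R L).nr s (i c) := by
  have h2 := gmap_X i (TypeG2.model.S.neg s) (-c⁻¹)
  rw [map_neg, map_inv₀] at h2
  show gmap i (X s c * X (TypeG2.model.S.neg s) (-c⁻¹) * X s c) = _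
  rw [map_mul, map_mul, gmap_X]
  exact congrArg₂ (· * ·) (congrArg₂ (· * ·) rfl h2) rfl

theorem gmap_hr (s : Rt) (c : F) : gmap i ((R F).hr s c) = (R L).hr s (i c) := by
  show gmap i ((R F).nr s c * (R F).nr s (-1)) = (R L).nr s (i c) * (R L).nr s (-1)
  rw [map_mul, gmap_nr, gmap_nr, map_neg, map_one]

theorem gmap_H {t : Grp F} (ht : t ∈ (R F).H) : gmap i t ∈ (R L).H := by
  have h : (R F).H ≤ (R L).H.comap (gmap i) := (Subgroup.closure_le _).2 <| by
    rintro _ ⟨r, c, hc, rfl⟩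
    show gmap i ((R F).hr r c) ∈ (R L).H
    exact (gmap_hr i r c).symm ▸ (R L).hr_mem_H ((map_ne_zero i).2 hc)
  exact h ht

theorem chi_gmap (t : Grp F) (s : Rt) : χ (gmap i t) s = i (χ t s) := rfl

theorem psi2_gmap {t : Grp F} (ht : t ∈ (R F).H) :
    psi2 ⟨gmap i t, gmap_H i ht⟩ =
      (Units.map (i : F →* L) (psi2 ⟨t, ht⟩).1, Units.map (i : F →* L) (psi2 ⟨t, ht⟩).2) :=
  Prod.ext (Units.ext rfl) (Units.ext rfl)

end map

/-- Frobenius-type maps act on the torus by powers. -/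
theorem gmap_pow (σ : F →+* F) {q : ℕ} (hσ : ∀ x, σ x = x ^ q) {t : Grp F} (ht : t ∈ (R F).H) :
    gmap σ t = t ^ q := by
  have h1 : (⟨gmap σ t, gmap_H σ ht⟩ : ↥(R F).H) = ⟨t, ht⟩ ^ q := by
    refine psi2_injective ?_
    rw [map_pow, psi2_gmap σ ht]
    exact Prod.ext (Units.ext (hσ _)) (Units.ext (hσ _))
  exact congrArg Subtype.val h1

end Cfsg.Agent.G2Orders80
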