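import Cfsg.Agent.G2Orders80.Rank1
import Cfsg.Agent.G2Orders80.Sylow

/-!
Centralisers of prime power elements of the torus of the group of type G2.
-/

set_option autoImplicit false

namespace Cfsg.Agent.G2Orders80

open Cfsg.Lie Cfsg.Agent.ChevGroup Cfsg.Agent.ChevCore Matrix

universe u

variable {F : Type u} [Field F]

/-- positive root subgroups killed by a torus element -/
noncomputable def killedU (t : Grp F) : Subgroup (Grp F) :=
  Subgroup.closure {g | ∃ r ∈ posR, ∃ c, χ t r = 1 ∧ g = X r c}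

theorem posRoots_sub : ∀ r ∈ chevG2.posRoots, ∃ s ∈ posR, (s : Rt).val = r := by decide +kernel

/-- the elements of `U` commuting with a torus element -/
theorem mem_killedU {t u : Grp F} (ht : t ∈ (R F).H) (hu : u ∈ (R F).U) (e : t * u = u * t) :
    u ∈ killedU t := by
  obtain ⟨c, hc⟩ := ChevTori.exists_tau TypeG2.model uGoodG2 ht
  have huP : (u : GL chevG2.Idx F) ∈ chevG2.posUnipotent F :=
    TypeG2.model.U_map (relsOfCommGood uGoodG2.toCommGood F) ▸ ⟨u, hu, rfl⟩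
  obtain ⟨τ, ⟨hτ0, hτ⟩, huniq⟩ := uGoodG2.exists_coords huP
  let τ' : ℕ → F := fun r =>
    if hr : r < chevG2.nroots then (tauW chevG2 F c (Sum.inr ⟨r, hr⟩) : F) * τ r else τ r
  have hG := uGoodG2.toCommGood.toGood
  have h2 : prodL chevG2 F chevG2.posRoots τ' = u := by
    have h3 : MulAut.conj (tau chevG2 F c) (prodL chevG2 F chevG2.posRoots τ) =
        prodL chevG2 F chevG2.posRoots τ' := by
      rw [prodL, map_list_prod, List.map_map, prodL]
      congr 1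
      refine List.map_congr_left fun r hr => ?_
      have hlt : r < chevG2.nroots := (hG.mem_posRoots.1 hr).1
      simp only [Function.comp_apply, MulAut.conj_apply, τ', dif_pos hlt]
      exact hG.tau_conj_x c hlt _
    rw [← h3, hτ, MulAut.conj_apply, ← hc, ← Subgroup.coe_mul, e, Subgroup.coe_mul,
      mul_inv_cancel_right]
  have h4 := huniq τ' ⟨fun r hr => by
    simp only [τ', hτ0 r hr, mul_zero]
    split <;> rfl, h2⟩
  suffices h : (u : GL chevG2.Idx F) ∈ (killedU t).map (chevG2.group F).subtype by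
    obtain ⟨u', hu', he⟩ := h
    exact (Subtype.ext he : u' = u) ▸ hu'
  rw [← hτ, prodL]
  refine Subgroup.list_prod_mem _ fun x hx => ?_
  obtain ⟨r, hr, rfl⟩ := List.mem_map.1 hx
  obtain ⟨s, hs, rfl⟩ := posRoots_sub r hr
  by_cases h0 : τ s.val = 0
  · rw [h0, hG.xg_zero]; exact one_mem _
  refine ⟨X s (τ s.val), Subgroup.subset_closure ⟨s, hs, _, ?_, rfl⟩, val_X s _⟩
  have h6 := congrFun h4 s.val
  simp only [τ', dif_pos (show s.val < chevG2.nroots from s.isLt)] at h6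
  have h7 : χ t s = (tauW chevG2 F c (Sum.inr ⟨s.val, s.isLt⟩) : F) :=
    ChevTori.chi_tau TypeG2.model hc s
  rw [h7]
  exact (mul_eq_right₀ h0).1 h6

variable [Fintype F]

/-- Elements commuting with a prime power element of the torus. -/
theorem exists_centralizer_form {t g : Grp F} (ht : t ∈ (R F).H) {r k : ℕ} (hr : r.Prime)
    (htr : t ^ r ^ k = 1) (hrQ : ¬ r ∣ Fintype.card F) (e : t * g = g * t) :
    ∃ u₁ ∈ killedU t, ∃ h ∈ (R F).H, ∃ w : List Si, ∃ u₂ ∈ killedU t,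
      (∀ s, χ t (wact w s) = χ t s) ∧ g = u₁ * (h * nwG w) * u₂ := by
  haveI := Fact.mk hr
  obtain ⟨b₁, hb₁, w, -, b₂, hb₂, rfl⟩ := exists_bruhat g
  have hwt : nwG w * t * (nwG w)⁻¹ = t := conj_key w ht ht hb₁ hb₂ e.symm
  have hfix : ∀ s, χ t (wact w s) = χ t s := fun s => by
    have := chi_conj w ht s
    rwa [hwt] at this
  obtain ⟨u₁, hu₁, k₁, hk₁, rfl⟩ := (R F).mem_B_iff.1 hb₁
  obtain ⟨v₂, hv₂, k₂, hk₂, rfl⟩ := (R F).mem_B_iff.1 hb₂
  set u₂ := k₂⁻¹ * v₂ * k₂ with hu₂def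
  have hu₂ : u₂ ∈ (R F).U := by
    have := (Subgroup.mem_normalizer_iff.1 ((R F).H_le_normalizer_U (inv_mem hk₂)) v₂).1 hv₂
    simpa [hu₂def] using this
  set m := k₁ * (nwG w * k₂ * (nwG w)⁻¹) * nwG w with hm
  have hmk : k₁ * (nwG w * k₂ * (nwG w)⁻¹) ∈ (R F).H := mul_mem hk₁ (nw_conj_H w hk₂)
  have hg : u₁ * k₁ * nwG w * (v₂ * k₂) = u₁ * m * u₂ := by rw [hm, hu₂def]; group
  have hmt : t * m = m * t := by
    have h1 := H_commute ht hmk
    have h2 : t * nwG w = nwG w * t := (mul_inv_eq_iff_eq_mul.1 hwt).symm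
    rw [hm, ← mul_assoc t, h1, mul_assoc _ t, h2, ← mul_assoc]
  rw [hg] at e ⊢
  let Y : Subgroup (Grp F) := (R F).U ⊓ (R F).U.map (MulAut.conj m).toMonoidHom
  have hUconj : ∀ {z : Grp F}, z ∈ (R F).H → ∀ {v}, v ∈ (R F).U → z * v * z⁻¹ ∈ (R F).U := fun hz v hv =>
    (Subgroup.mem_normalizer_iff.1 ((R F).H_le_normalizer_U hz) v).1 hv
  have hYconj : ∀ {z : Grp F}, z ∈ Subgroup.zpowers t → ∀ {v}, v ∈ Y → z * v * z⁻¹ ∈ Y := by
    intro z hz v hv
    have hzH : z ∈ (R F).H := (Subgroup.zpowers_le.2 ht) hz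
    obtain ⟨v', hv', he⟩ := hv.2
    refine ⟨hUconj hzH hv.1, z * v' * z⁻¹, hUconj hzH hv', ?_⟩
    obtain ⟨j, rfl⟩ := Subgroup.mem_zpowers_iff.1 hz
    have hc : Commute m (t ^ j) := (show Commute m t from hmt.symm).zpow_right j
    show m * (t ^ j * v' * (t ^ j)⁻¹) * m⁻¹ = t ^ j * v * (t ^ j)⁻¹
    rw [← he]
    show _ = t ^ j * (m * v' * m⁻¹) * (t ^ j)⁻¹
    calc m * (t ^ j * v' * (t ^ j)⁻¹) * m⁻¹ = (m * t ^ j) * v' * ((t ^ j)⁻¹ * m⁻¹) := by group
      _ = (t ^ j * m) * v' * (m⁻¹ * (t ^ j)⁻¹) := by rw [hc.eq, (hc.inv_inv).eq]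
      _ = _ := by group
  have htY : u₁⁻¹ * (t * u₁ * t⁻¹) ∈ Y := by
    refine Subgroup.mem_inf.2 ⟨mul_mem ((R F).U.inv_mem hu₁) (hUconj ht hu₁), ?_⟩
    refine ⟨u₂ * (t * u₂ * t⁻¹)⁻¹, mul_mem hu₂ (inv_mem (hUconj ht hu₂)), ?_⟩
    show m * (u₂ * (t * u₂ * t⁻¹)⁻¹) * m⁻¹ = u₁⁻¹ * (t * u₁ * t⁻¹)
    have h1 : (t * u₁ * t⁻¹) * m * (t * u₂ * t⁻¹) = u₁ * m * u₂ := by
      calc (t * u₁ * t⁻¹) * m * (t * u₂ * t⁻¹) = t * u₁ * (t⁻¹ * (m * t)) * u₂ * t⁻¹ := by group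
        _ = t * u₁ * (t⁻¹ * (t * m)) * u₂ * t⁻¹ := by rw [hmt]
        _ = t * (u₁ * m * u₂) * t⁻¹ := by group
        _ = _ := by rw [e]; group
    calc m * (u₂ * (t * u₂ * t⁻¹)⁻¹) * m⁻¹ = u₁⁻¹ * (u₁ * m * u₂) * (t * u₂ * t⁻¹)⁻¹ * m⁻¹ := by group
      _ = _ := by rw [← h1]; group
  have hstep : ∀ z ∈ Subgroup.zpowers t, u₁⁻¹ * (z * u₁ * z⁻¹) ∈ Y := by
    have key : ∀ j : ℕ, u₁⁻¹ * (t ^ j * u₁ * (t ^ j)⁻¹) ∈ Y := by
      intro j
      induction j with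
      | zero => simp
      | succ j ih =>
        have h1 := hYconj (Subgroup.mem_zpowers t) ih
        have h2 := mul_mem htY h1
        rw [show u₁⁻¹ * (t ^ (j + 1) * u₁ * (t ^ (j + 1))⁻¹) = u₁⁻¹ * (t * u₁ * t⁻¹) *
          (t * (u₁⁻¹ * (t ^ j * u₁ * (t ^ j)⁻¹)) * t⁻¹) by rw [pow_succ']; group]
        exact h2
    intro z hz
    obtain ⟨j, rfl⟩ := (mem_powers_iff_mem_zpowers.2 hz : z ∈ Submonoid.powers t)
    exact key j
  let S : Type u := {x : Grp F // u₁⁻¹ * x ∈ Y}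
  letI : MulAction (Subgroup.zpowers t) S :=
    { smul := fun z x => ⟨z.1 * x.1 * z.1⁻¹, by
        have h2 := mul_mem (hstep z.1 z.2) (hYconj z.2 x.2)
        rw [show u₁⁻¹ * (z.1 * x.1 * z.1⁻¹) = u₁⁻¹ * (z.1 * u₁ * z.1⁻¹) *
          (z.1 * (u₁⁻¹ * x.1) * z.1⁻¹) by group]
        exact h2⟩
      one_smul := fun x => Subtype.ext (by
        show (1 : Grp F) * x.1 * (1 : Grp F)⁻¹ = x.1
        group)
      mul_smul := fun z z' x => Subtype.ext (by
        show z.1 * z'.1 * x.1 * (z.1 * z'.1)⁻¹ = z.1 * (z'.1 * x.1 * z'.1⁻¹) * z.1⁻¹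
        group) }
  have hP : IsPGroup r (Subgroup.zpowers t) := by
    obtain ⟨j, -, hj⟩ := (Nat.dvd_prime_pow hr).1 (orderOf_dvd_of_pow_eq_one htr)
    exact IsPGroup.of_card (n := j) (by rw [Nat.card_zpowers, hj])
  have hcard : ¬ r ∣ Nat.card S := by
    have h1 : Nat.card S = Nat.card Y := Nat.card_congr
      { toFun := fun x => ⟨u₁⁻¹ * x.1, x.2⟩
        invFun := fun y => ⟨u₁ * y.1, by rw [inv_mul_cancel_left]; exact y.2⟩
        left_inv := fun x => Subtype.ext (mul_inv_cancel_left _ _)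
        right_inv := fun y => Subtype.ext (inv_mul_cancel_left _ _) }
    intro hd
    rw [h1] at hd
    have h2 := hd.trans (Subgroup.card_dvd_of_le (inf_le_left : Y ≤ (R F).U))
    rw [card_U] at h2
    exact hrQ (hr.dvd_of_dvd_pow h2)
  obtain ⟨⟨x, hxY⟩, hx⟩ := hP.nonempty_fixed_point_of_prime_not_dvd_card S hcard
  have hxt : t * x = x * t := by
    have h1 : t * x * t⁻¹ = x := congrArg Subtype.val (hx ⟨t, Subgroup.mem_zpowers t⟩)
    exact mul_inv_eq_iff_eq_mul.1 h1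
  obtain ⟨y', hy', hye⟩ := hxY.2
  have hxU : x ∈ (R F).U := by
    have := mul_mem hu₁ hxY.1
    rwa [mul_inv_cancel_left] at this
  set u₂' := y'⁻¹ * u₂ with hu₂'
  have hu₂'U : u₂' ∈ (R F).U := mul_mem (inv_mem hy') hu₂
  have hg' : u₁ * m * u₂ = x * m * u₂' := by
    have h1 : m * y' * m⁻¹ = u₁⁻¹ * x := hye
    calc u₁ * m * u₂ = u₁ * (m * y' * m⁻¹) * m * (y'⁻¹ * u₂) := by group
      _ = _ := by rw [h1, hu₂']; group
  have hu₂t : t * u₂' = u₂' * t := by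
    have h1 := e
    rw [hg'] at h1
    have h2 : t * (x * m * u₂') = x * m * (t * u₂') := by
      calc t * (x * m * u₂') = (t * x) * m * u₂' := by group
        _ = x * (t * m) * u₂' := by rw [hxt]; group
        _ = _ := by rw [hmt]; group
    rw [h2, mul_assoc (x * m)] at h1
    exact mul_left_cancel h1
  exact ⟨x, mem_killedU ht hxU hxt, _, hmk, w, u₂', mem_killedU ht hu₂'U hu₂t, hfix, hg'⟩

theorem refl_word_cert : ∀ r ∈ posR, ∃ v ∈ wList, ∃ i : Si,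
    (wact v (TypeG2.model.S.simple i : Rt) = r) ∧ ∀ s, wact (v ++ [i] ++ v.reverse) s = wact (reflWord r) s := by
  decide +kernel

omit [Fintype F] in
theorem reflWord_mem {M : Subgroup (Grp F)} (hH : (R F).H ≤ M) {r : Rt} (hr : r ∈ posR)
    (hX : ∀ c, X r c ∈ M ∧ X (negR r) c ∈ M) : (nwG (reflWord r) : Grp F) ∈ M := by
  obtain ⟨v, -, i, hv, hperm⟩ := refl_word_cert r hr
  obtain ⟨e, he, hc⟩ := (R F).nw_conj_nr v (TypeG2.model.S.simple i) 1
  have he0 : e ≠ 0 := fun h0 => by simp [h0] at he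
  have hnr : (R F).nr (TypeG2.model.S.actw v (TypeG2.model.S.simple i)) (e * 1) ∈ M := by
    rw [actw_eq v (TypeG2.model.S.simple i : Rt)] 
    rw [hv]
    exact mul_mem (mul_mem (hX _).1 (hX _).2) (hX _).1
  obtain ⟨k, hk, hinv⟩ := nw_inv_eq (R F) v
  have h1 : (nwG v : Grp F) * nwG [i] * (nwG v)⁻¹ ∈ M := by
    rw [show (nwG [i] : Grp F) = (R F).nr (TypeG2.model.S.simple i) 1 from mul_one _]
    exact hc ▸ hnr
  have h2 : (nwG (v ++ [i] ++ v.reverse) : Grp F) ∈ M := by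
    rw [nwG_append, nwG_append,
      show (nwG v.reverse : Grp F) = k⁻¹ * (nwG v)⁻¹ by
        rw [show ((nwG v : Grp F))⁻¹ = k * nwG v.reverse from hinv]; group]
    rw [show nwG v * nwG [i] * (k⁻¹ * (nwG v)⁻¹) =
      (nwG v * nwG [i] * (nwG v)⁻¹) * (nwG v * k⁻¹ * (nwG v)⁻¹) by group]
    exact mul_mem h1 (hH (nw_conj_mem_H (R F) v (inv_mem hk)))
  have h3 := nw_div_mem_H (F := F) hperm
  have := mul_mem (inv_mem (hH h3)) h2
  simpa [_root_.mul_inv_rev, mul_assoc] using this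

theorem pair_pos : ∀ P ∈ orthPairs, P.1 ∈ posR ∧ P.2 ∈ posR := by decide +kernel

omit [Fintype F] in
theorem pairWords_mem {P : Rt × Rt} (hP : P ∈ orthPairs) {v : List Si} (hv : v ∈ pairWords P) :
    (nwG v : Grp F) ∈ M2 hP := by
  have hH : (R F).H ≤ M2 (F := F) hP := fun t ht => H_le_M2 hP ht
  have m1 := reflWord_mem hH (pair_pos P hP).1 (X_fst_mem_M2 (F := F) hP)
  have m2 := reflWord_mem hH (pair_pos P hP).2 (X_snd_mem_M2 (F := F) hP)
  simp only [pairWords, List.mem_cons, List.not_mem_nil, or_false] at hv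
  rcases hv with rfl | rfl | rfl | rfl
  · exact one_mem _
  · exact m1
  · exact m2
  · rw [nwG_append]; exact mul_mem m1 m2

/-- The centraliser of an element of order prime power other than three lies in a product of two
commuting rank one groups. -/
theorem centralizer_le_M2 {t g : Grp F} (ht : t ∈ (R F).H) {r k : ℕ} (hr : r.Prime)
    (htr : t ^ r ^ k = 1) (hrQ : ¬ r ∣ Fintype.card F) (h3 : t ^ 3 ≠ 1) (e : t * g = g * t) :
    ∃ P : Rt × Rt, ∃ hP : P ∈ orthPairs, g ∈ M2 hP := by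
  set a := (psi2 ⟨t, ht⟩).1 with ha
  set b := (psi2 ⟨t, ht⟩).2 with hb
  have hab : ¬ (a ^ 3 = 1 ∧ b ^ 3 = 1) := fun h => h3 (pow_eq_one_of ht h)
  obtain ⟨P, hP, hK⟩ := exists_pair a b hab
  refine ⟨P, hP, ?_⟩
  obtain ⟨u₁, hu₁, h, hh, w, u₂, hu₂, hw, rfl⟩ := exists_centralizer_form ht hr htr hrQ e
  obtain ⟨v, hv, hperm⟩ := stab_pair a b hab hP hK w fun s => Units.ext (by
    have := hw s
    rw [chi_eq ⟨t, ht⟩, chi_eq ⟨t, ht⟩] at this
    exact this)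
  have hU : killedU t ≤ M2 hP := by
    refine (Subgroup.closure_le _).2 ?_
    rintro _ ⟨s, hs, c, hk, rfl⟩
    rw [chi_eq ⟨t, ht⟩, Units.val_eq_one] at hk
    rcases hK s hs hk with rfl | rfl
    · exact (X_fst_mem_M2 hP c).1
    · exact (X_snd_mem_M2 hP c).1
  refine mul_mem (mul_mem (hU hu₁) (mul_mem (H_le_M2 hP hh) ?_)) (hU hu₂)
  have h1 := nw_div_mem_H (F := F) hperm
  have := mul_mem (H_le_M2 hP h1) (pairWords_mem (F := F) hP hv)
  rwa [inv_mul_cancel_right] at this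

end Cfsg.Agent.G2Orders80
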