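import Cfsg.Agent.G2Orders80.Unipotent
import Mathlib.FieldTheory.Finite.Extension

/-!
The possible element orders of the group of type G2 over a finite field.
-/

set_option autoImplicit false

namespace Cfsg.Agent.G2Orders80

open Cfsg.Lie Cfsg.Agent.ChevGroup Cfsg.Agent.ChevCore

universe u v

/-! ### extensions of finite fields -/

theorem exists_extension (F : Type u) [Field F] [Fintype F] (n : ℕ) (hn : n ≠ 0) :
    ∃ (K : Type) (_ : Field K) (_ : Fintype K) (_ : F →+* K),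
      Fintype.card K = Fintype.card F ^ n := by
  obtain ⟨p, hchar⟩ := CharP.exists F
  haveI : Fact p.Prime := ⟨(CharP.char_is_prime_or_zero F p).resolve_right fun e => by
    subst e
    haveI := CharP.charP_to_charZero F
    exact not_finite F⟩
  haveI : NeZero n := ⟨hn⟩
  let K := FiniteField.Extension F p n
  letI : Fintype K := Fintype.ofFinite K
  refine ⟨K, inferInstance, inferInstance, algebraMap F K, ?_⟩
  rw [← Nat.card_eq_fintype_card, ← Nat.card_eq_fintype_card]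
  exact FiniteField.natCard_extension F p n

/-- A finite extension containing the roots of all quadratic equations over the base field. -/
theorem exists_quadratic (F : Type u) [Field F] [Fintype F] :
    ∃ (L : Type) (_ : Field L) (_ : Fintype L) (i : F →+* L),
      Fintype.card L = Fintype.card F ^ 2 ∧ ∀ x y : F, ∃ r : L, r ^ 2 + i x * r + i y = 0 := by
  obtain ⟨p, hchar⟩ := CharP.exists F
  haveI : Fact p.Prime := ⟨(CharP.char_is_prime_or_zero F p).resolve_right fun e => by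
    subst e
    haveI := CharP.charP_to_charZero F
    exact not_finite F⟩
  let L := FiniteField.Extension F p 2
  letI : Fintype L := Fintype.ofFinite L
  refine ⟨L, inferInstance, inferInstance, algebraMap F L, ?_, ?_⟩
  · rw [← Nat.card_eq_fintype_card, ← Nat.card_eq_fintype_card]
    exact FiniteField.natCard_extension F p 2
  intro x y
  let f : Polynomial F := Polynomial.X ^ 2 + Polynomial.C x * Polynomial.X + Polynomial.C y
  have hdeg : f.natDegree = 2 := by simp only [f]; compute_degree!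
  by_cases hirr : Irreducible f
  · haveI := Fact.mk hirr
    let e := FiniteField.algEquivExtension F p 2 (AdjoinRoot f)
      (hdeg ▸ finrank_quotient_span_eq_natDegree (f := f))
    refine ⟨e (AdjoinRoot.root f), ?_⟩
    have h0 : Polynomial.aeval (e (AdjoinRoot.root f)) f = 0 := by
      rw [show (e (AdjoinRoot.root f)) = e.toAlgHom (AdjoinRoot.root f) from rfl,
        Polynomial.aeval_algHom_apply, AdjoinRoot.aeval_eq, AdjoinRoot.mk_self, map_zero]
    simpa [f] using h0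
  · obtain ⟨r, hr⟩ : ∃ r, f.IsRoot r := by
      by_contra hcon
      push Not at hcon
      refine hirr ((Polynomial.irreducible_iff_roots_eq_zero_of_degree_le_three (by omega) (by omega)).2 ?_)
      exact Multiset.eq_zero_of_forall_notMem fun a ha => hcon a (Polynomial.isRoot_of_mem_roots ha)
    refine ⟨algebraMap F L r, ?_⟩
    have hr' : r ^ 2 + x * r + y = 0 := by simpa [f] using hr
    rw [← map_pow, ← map_mul, ← map_add, ← map_add, hr', map_zero]

section basics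

variable {F : Type u} [Field F]

theorem gmap_comp {K : Type v} [Field K] {L : Type*} [Field L] (i : F →+* K) (j : K →+* L)
    (g : Grp F) : gmap j (gmap i g) = gmap (j.comp i) g :=
  Model.mat_inj (Matrix.ext fun _ _ => rfl)

/-- Triangular form of the elements of a product of two rank one groups. -/
theorem triangular_M2 {L : Type v} [Field L] (i : F →+* L)
    (hroot : ∀ x y : F, ∃ r : L, r ^ 2 + i x * r + i y = 0)
    {P : Rt × Rt} (hP : P ∈ orthPairs) {g : Grp F} (hg : g ∈ M2 hP) :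
    ∃ y h : Grp L, h ∈ (R L).H ∧ ∃ c d : L, (c = 0 ∨ χ h P.1 = 1) ∧ (d = 0 ∨ χ h P.2 = 1) ∧
      y * gmap i g * y⁻¹ = h * X P.1 c * X P.2 d := by
  obtain ⟨t, ht, B, C, rfl⟩ := hg
  set t' := gmap i t with ht'def
  have ht' : t' ∈ (R L).H := gmap_H i ht
  have hroot' : ∀ (s : Rt) (B : SL2 F), (Matrix.SpecialLinearGroup.map i B).1 1 0 = 0 ∨
      ∃ x, (Matrix.SpecialLinearGroup.map i B).1 1 0 * x ^ 2 +
        ((Matrix.SpecialLinearGroup.map i B).1 1 1 - χ t' s * (Matrix.SpecialLinearGroup.map i B).1 0 0) * x -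
          χ t' s * (Matrix.SpecialLinearGroup.map i B).1 0 1 = 0 := by
    intro s B
    by_cases h0 : B.1 1 0 = 0
    · left
      show i (B.1 1 0) = 0
      rw [h0, map_zero]
    right
    obtain ⟨r, hr⟩ := hroot ((B.1 1 1 - χ t s * B.1 0 0) / B.1 1 0) (-(χ t s * B.1 0 1) / B.1 1 0)
    refine ⟨r, ?_⟩
    show i (B.1 1 0) * r ^ 2 + (i (B.1 1 1) - i (χ t s) * i (B.1 0 0)) * r - i (χ t s) * i (B.1 0 1) = 0
    have hi0 : i (B.1 1 0) ≠ 0 := (map_ne_zero i).2 h0
    simp only [map_div₀, map_sub, map_mul, map_neg] at hr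
    field_simp at hr
    linear_combination hr
  obtain ⟨A, a, b, ha, eA⟩ := exists_triangular (chi_ne_zero ht' P.1) _ (hroot' P.1 B)
  obtain ⟨A', a', b', ha', eA'⟩ := exists_triangular (chi_ne_zero ht' P.2) _ (hroot' P.2 C)
  set y := (phi P.1 A * phi P.2 A')⁻¹ with hy
  set h := t' * (R L).hr P.1 a * (R L).hr P.2 a' with hh
  have hhH : h ∈ (R L).H := mul_mem (mul_mem ht' ((R L).hr_mem_H ha)) ((R L).hr_mem_H ha')
  have key : y * gmap i (t * phi P.1 B * phi P.2 C) * y⁻¹ = h * X P.1 b * X P.2 b' := by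
    rw [map_mul, map_mul, gmap_phi, gmap_phi, ← ht'def, hy, inv_inv, _root_.mul_inv_rev]
    set B' := Matrix.SpecialLinearGroup.map i B
    set C' := Matrix.SpecialLinearGroup.map i C
    rw [← map_inv, ← map_inv]
    calc phi P.2 A'⁻¹ * phi P.1 A⁻¹ * (t' * phi P.1 B' * phi P.2 C') * (phi P.1 A * phi P.2 A')
        = phi P.2 A'⁻¹ * (phi P.1 A⁻¹ * t') * phi P.1 B' * (phi P.2 C' * phi P.1 A) * phi P.2 A' := by group
      _ = phi P.2 A'⁻¹ * (t' * phi P.1 (dconj (χ t' P.1)⁻¹ (inv_ne_zero (chi_ne_zero ht' _)) A⁻¹)) *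
            phi P.1 B' * (phi P.1 A * phi P.2 C') * phi P.2 A' := by
          rw [phi_mul_H ht' P.1, phi_comm hP A C']
      _ = (phi P.2 A'⁻¹ * t') * phi P.1 (dconj (χ t' P.1)⁻¹ (inv_ne_zero (chi_ne_zero ht' _)) A⁻¹ * B' * A) *
            phi P.2 (C' * A') := by
          rw [map_mul, map_mul, map_mul]; group
      _ = t' * (phi P.2 (dconj (χ t' P.2)⁻¹ (inv_ne_zero (chi_ne_zero ht' _)) A'⁻¹) *
            phi P.1 (ph slU slL a * slU b)) * phi P.2 (C' * A') := by
          rw [phi_mul_H ht' P.2, eA]; group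
      _ = t' * phi P.1 (ph slU slL a * slU b) *
            phi P.2 (dconj (χ t' P.2)⁻¹ (inv_ne_zero (chi_ne_zero ht' _)) A'⁻¹ * C' * A') := by
          rw [← phi_comm hP, map_mul, map_mul, map_mul]; simp only [map_mul, mul_assoc]
      _ = t' * ((R L).hr P.1 a * X P.1 b) * ((R L).hr P.2 a' * X P.2 b') := by
          rw [eA', map_mul, map_mul, phi_ph, phi_ph, phi_U, phi_U]
      _ = t' * (R L).hr P.1 a * (X P.1 b * (R L).hr P.2 a') * X P.2 b' := by group
      _ = t' * (R L).hr P.1 a * ((R L).hr P.2 a' * X P.1 b) * X P.2 b' := by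
          rw [← phi_ph P.2, ← phi_U P.1, phi_comm hP]
      _ = _ := by rw [hh]; group
  obtain ⟨e₁, c, hc, hcl⟩ := exists_clean hhH P.1 b
  obtain ⟨e₂, d, hd, hdl⟩ := exists_clean hhH P.2 b'
  refine ⟨X P.2 e₂ * X P.1 e₁ * y, h, hhH, c, d, hc, hd, ?_⟩
  have hX : ∀ u v : L, (X P.1 u : Grp L) * X P.2 v = X P.2 v * X P.1 u := fun u v =>
    X_comm hP (by simp) (by simp) u v
  rw [show X P.2 e₂ * X P.1 e₁ * y * gmap i (t * phi P.1 B * phi P.2 C) * (X P.2 e₂ * X P.1 e₁ * y)⁻¹ =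
    X P.2 e₂ * (X P.1 e₁ * (y * gmap i (t * phi P.1 B * phi P.2 C) * y⁻¹) * (X P.1 e₁)⁻¹) * (X P.2 e₂)⁻¹
      by group, key]
  calc X P.2 e₂ * (X P.1 e₁ * (h * X P.1 b * X P.2 b') * (X P.1 e₁)⁻¹) * (X P.2 e₂)⁻¹
      = X P.2 e₂ * ((X P.1 e₁ * (h * X P.1 b) * (X P.1 e₁)⁻¹) * (X P.1 e₁ * X P.2 b') * (X P.1 e₁)⁻¹) *
          (X P.2 e₂)⁻¹ := by group
    _ = X P.2 e₂ * (h * X P.1 c * X P.2 b') * (X P.2 e₂)⁻¹ := by rw [hcl, hX]; group
    _ = X P.2 e₂ * h * (X P.1 c * X P.2 b') * (X P.2 e₂)⁻¹ := by group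
    _ = X P.2 e₂ * (h * X P.2 b') * (X P.1 c * (X P.2 e₂)⁻¹) := by rw [hX]; group
    _ = (X P.2 e₂ * (h * X P.2 b') * (X P.2 e₂)⁻¹) * X P.1 c := by rw [← X_neg, hX]; group
    _ = h * X P.1 c * X P.2 d := by rw [hdl, mul_assoc h, ← hX, ← mul_assoc]

theorem commute_unip {h : Grp F} (hh : h ∈ (R F).H) {s : Rt} {c : F} (hc : c = 0 ∨ χ h s = 1) :
    Commute h (X s c) := by
  rcases hc with rfl | hk
  · rw [X_zero]; exact Commute.one_right h
  · show h * X s c = X s c * h
    have := conj_X hh s c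
    rw [hk, one_mul] at this
    exact mul_inv_eq_iff_eq_mul.1 this

variable [Fintype F] {p : ℕ} [Fact p.Prime] [CharP F p]

theorem card_eq_char_pow : ∃ a : ℕ, 0 < a ∧ Fintype.card F = p ^ a := by
  obtain ⟨n, -, h⟩ := FiniteField.card F p
  exact ⟨n, n.2, h⟩

theorem X_pow_char (s : Rt) (c : F) : (X s c : Grp F) ^ p = 1 :=
  gens_pow (S := [s]) (Fact.out : p.Prime) ⟨s, by simp, c, rfl⟩

theorem pow_card_self {h : Grp F} (hh : h ∈ (R F).H) : h ^ Fintype.card F = h := by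
  obtain ⟨m, hm⟩ : ∃ m, Fintype.card F = m + 1 := ⟨_, (Nat.succ_pred_eq_of_pos Fintype.card_pos).symm⟩
  have := pow_card_sub_one hh
  rw [hm, add_tsub_cancel_right] at this
  rw [hm, pow_succ, this, one_mul]

theorem U_pow_card {u : Grp F} (hu : ∃ k, u ^ p ^ k = 1) {v : Grp F} (hv : v ∈ (R F).H)
    (h : Commute v u) (hpk : u ^ p = 1) : (v * u) ^ Fintype.card F = v := by
  obtain ⟨a, ha, e⟩ := card_eq_char_pow (F := F) (p := p)
  obtain ⟨b, rfl⟩ : ∃ b, a = b + 1 := ⟨a - 1, by omega⟩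
  rw [h.mul_pow, pow_card_self hv, e, pow_succ', pow_mul, hpk, one_pow, mul_one]

/-- An element of order two is conjugate into the torus of an extension. -/
theorem conj_H_two (hp2 : p ≠ 2) (hQ : Fintype.card F % 4 = 1) {g : Grp F} (hg : g ^ 2 = 1) :
    ∃ (L : Type) (_ : Field L) (_ : Fintype L) (i : F →+* L) (y : Grp L),
      y * gmap i g * y⁻¹ ∈ (R L).H := by
  obtain ⟨y₀, hy₀⟩ := conj_K4 hQ hg
  have hP : ((7 : Rt), (11 : Rt)) ∈ orthPairs := by decide
  have hle : K4 (F := F) ≤ M2 hP := by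
    refine sup_le (sup_le (fun t ht => H_le_M2 hP ht) ?_) ?_ <;> rw [Subgroup.zpowers_le]
    · exact reflWord_mem (fun t ht => H_le_M2 hP ht) (r := 7) (by decide) (X_fst_mem_M2 hP)
    · exact reflWord_mem (fun t ht => H_le_M2 hP ht) (r := 11) (by decide) (X_snd_mem_M2 hP)
  obtain ⟨L, _, _, i, -, hroot⟩ := exists_quadratic F
  obtain ⟨y, h, hh, c, d, hc, hd, e⟩ := triangular_M2 i hroot hP (hle hy₀)
  haveI : CharP L p := charP_of_injective_ringHom i.injective p
  refine ⟨L, inferInstance, inferInstance, i, y * gmap i y₀, ?_⟩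
  have e' : (y * gmap i y₀) * gmap i g * (y * gmap i y₀)⁻¹ = h * (X (7 : Rt) c * X (11 : Rt) d) := by
    rw [← mul_assoc h, ← e, map_mul, map_mul, map_inv]; group
  rw [e']
  have h2 : (h * (X (7 : Rt) c * X (11 : Rt) d)) ^ 2 = 1 := by
    rw [← e', conj_pow, ← map_pow, hg, map_one, mul_one, mul_inv_cancel]
  have hcu := (commute_unip hh hc).mul_right (commute_unip hh hd)
  have hup : (X (7 : Rt) c * X (11 : Rt) d : Grp L) ^ p = 1 := by
    rw [(show Commute _ _ from X_comm (P := ((7 : Rt), (11 : Rt))) hP (by simp) (by simp) c d).mul_pow,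
      X_pow_char, X_pow_char, one_mul]
  have hodd : p % 2 = 1 := ((Fact.out : p.Prime).eq_two_or_odd).resolve_left hp2
  have hu : (h * (X (7 : Rt) c * X (11 : Rt) d)) = h := by
    have h3 := U_pow_card (p := p) ⟨1, by rw [pow_one]; exact hup⟩ hh hcu hup
    obtain ⟨a, -, ea⟩ := card_eq_char_pow (F := L) (p := p)
    obtain ⟨m, hm⟩ : ∃ m, Fintype.card L = 2 * m + 1 :=
      ⟨Fintype.card L / 2, by
        have : Fintype.card L % 2 = 1 := by rw [ea, Nat.pow_mod, hodd, one_pow, Nat.one_mod]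
        omega⟩
    rw [hm, pow_succ, pow_mul, h2, one_pow, one_mul] at h3
    exact h3
  rw [hu]
  exact hh

theorem cycle_cert : ∀ s : Rt, ∃ s' s'' : Rt, wact [0, 1, 0, 1] s' = s ∧ wact [0, 1, 0, 1] s'' = s' ∧
    cfv s + cfv s' + cfv s'' = 0 := by decide +kernel

theorem cycle_sum : ∀ s : Rt,
    cfv s + cfv (wact [0, 1, 0, 1] s) + cfv (wact [0, 1, 0, 1] (wact [0, 1, 0, 1] s)) = 0 := by
  decide +kernel

/-- The three-part of the monomial subgroup outside the torus has exponent three. -/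
theorem cube_of_K3 {g : Grp F} (hg : g ∈ K3 (F := F)) : g ∈ (R F).H ∨ g ^ 3 = 1 := by
  set n := (nwG [0, 1, 0, 1] : Grp F) with hn
  have hn3 : n ^ 3 = 1 := by
    have h1 : (nwG (List.replicate 3 ([0, 1, 0, 1] : List Si)).flatten : Grp F) ∈ (R F).H :=
      nw_mem_H refl_perm_facts.2.2.2.2.2.2.2
    rw [hn, nw_pow]
    set m := (nwG (List.replicate 3 ([0, 1, 0, 1] : List Si)).flatten : Grp F) with hm
    have hmn : nwG [0, 1, 0, 1] * m * (nwG [0, 1, 0, 1])⁻¹ = m := by
      rw [hm, ← nw_pow]; group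
    refine (pow_one m).symm.trans (pow_eq_one_of h1 (n := 1) ?_)
    have hsq : ∀ s : Rt, χ m s * χ m s = 1 := by
      intro s
      obtain ⟨e, he, hx⟩ := (R F).nw_conj (List.replicate 3 ([0, 1, 0, 1] : List Si)).flatten s
      have h2 := conj_X h1 s 1
      have h3 := hx 1
      have es := (actw_eq (List.replicate 3 ([0, 1, 0, 1] : List Si)).flatten s).trans
        (refl_perm_facts.2.2.2.2.2.2.2 s)
      have h4 : (X s (χ m s * 1) : Grp F) = X s (e * 1) :=
        h2.symm.trans (h3.trans (congrArg (fun r : Rt => (X r (e * 1) : Grp F)) es))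
      have h5 := X_inj s h4
      rw [mul_one, mul_one] at h5
      rw [h5, he]
    have hw3 : ∀ s, χ m (wact [0, 1, 0, 1] s) = χ m s := fun s => by
      have := chi_conj [0, 1, 0, 1] h1 s
      rwa [hmn] at this
    set a := (psi2 ⟨m, h1⟩).1
    set b := (psi2 ⟨m, h1⟩).2
    have hsum := cycle_sum
    have hall : ∀ s : Rt, ev2 a b (cfv s) = 1 := fun s => by
      have h2 : ev2 a b (cfv s) * ev2 a b (cfv s) = 1 := Units.ext (by
        have := hsq s
        rw [chi_eq ⟨m, h1⟩] at this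
        exact this)
      have e1 : ∀ r, ev2 a b (cfv (wact [0, 1, 0, 1] r)) = ev2 a b (cfv r) := fun r => Units.ext (by
        have := hw3 r
        rw [chi_eq ⟨m, h1⟩, chi_eq ⟨m, h1⟩] at this
        exact this)
      have h3 : ev2 a b (cfv s + cfv (wact [0, 1, 0, 1] s) + cfv (wact [0, 1, 0, 1] (wact [0, 1, 0, 1] s))) = 1 := by
        rw [hsum s, ev2_zero]
      rw [ev2_add, ev2_add, e1, e1, e1, h2, one_mul] at h3
      exact h3
    simpa using of_basis (n := 1) (by simpa using hall 7) (by simpa using hall 6)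
  have cH : ∀ {x : Grp F}, x ∈ (R F).H → ∀ j : ℕ, n ^ j * x * (n ^ j)⁻¹ ∈ (R F).H := by
    intro x hx j
    induction j with
    | zero => simpa using hx
    | succ j ih =>
      rw [show n ^ (j + 1) * x * (n ^ (j + 1))⁻¹ = n * (n ^ j * x * (n ^ j)⁻¹) * n⁻¹ by
        rw [pow_succ']; group]
      exact nw_conj_H _ ih
  have hform : ∃ h ∈ (R F).H, ∃ j : ℕ, g = h * n ^ j := by
    rw [K3, Subgroup.zpowers_eq_closure, ← Subgroup.closure_eq (R F).H, ← Subgroup.closure_union, ← hn] at hg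
    induction hg using Subgroup.closure_induction with
    | mem x hx =>
      rcases hx with hx | hx
      · exact ⟨x, hx, 0, by rw [pow_zero, mul_one]⟩
      · exact ⟨1, one_mem _, 1, by rw [one_mul, pow_one]; exact hx⟩
    | one => exact ⟨1, one_mem _, 0, by rw [pow_zero, mul_one]⟩
    | mul x y _ _ hx hy =>
      obtain ⟨z, hz, i, e⟩ := hx
      obtain ⟨w, hw, j, e'⟩ := hy
      exact ⟨_, mul_mem hz (cH hw i), i + j, by rw [e, e', pow_add]; group⟩
    | inv x _ hx =>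
      obtain ⟨z, hz, i, e⟩ := hx
      have e2 : (n ^ i)⁻¹ = n ^ (2 * i) := inv_eq_of_mul_eq_one_right (by
        rw [← pow_add, show i + 2 * i = 3 * i by ring, pow_mul, hn3, one_pow])
      exact ⟨_, cH (inv_mem hz) (2 * i), 2 * i, by rw [e, _root_.mul_inv_rev, e2]; group⟩
  obtain ⟨h, hh, j, rfl⟩ := hform
  have hH2 : n * h * n⁻¹ ∈ (R F).H := nw_conj_H _ hh
  have hH3 : n * (n * h * n⁻¹) * n⁻¹ ∈ (R F).H := nw_conj_H _ hH2
  have h2 : h * (n * h * n⁻¹) * (n * (n * h * n⁻¹) * n⁻¹) = 1 := by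
    have hmem : h * (n * h * n⁻¹) * (n * (n * h * n⁻¹) * n⁻¹) ∈ (R F).H := mul_mem (mul_mem hh hH2) hH3
    refine (pow_one _).symm.trans (pow_eq_one_of hmem (n := 1) ?_)
    obtain hsum := cycle_cert
    have hall : ∀ s : Rt, χ (h * (n * h * n⁻¹) * (n * (n * h * n⁻¹) * n⁻¹)) s = 1 := by
      intro s
      obtain ⟨s', s'', e', e'', h0⟩ := hsum s
      have k1 : χ (n * h * n⁻¹) s = χ h s' := e' ▸ chi_conj [0, 1, 0, 1] hh s'
      have k2 : χ (n * (n * h * n⁻¹) * n⁻¹) s = χ h s'' := by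
        rw [← e', ← e'']
        exact (chi_conj [0, 1, 0, 1] hH2 _).trans (chi_conj [0, 1, 0, 1] hh s'')
      rw [chi_mul (mul_mem hh hH2) hH3, chi_mul hh hH2, k1, k2, chi_eq ⟨h, hh⟩, chi_eq ⟨h, hh⟩,
        chi_eq ⟨h, hh⟩, ← Units.val_mul, ← Units.val_mul, ← ev2_add, ← ev2_add, h0, ev2_zero, Units.val_one]
    have h7 := hall 7
    have h6 := hall 6
    rw [chi_eq ⟨_, hmem⟩, Units.val_eq_one] at h7 h6
    exact of_basis (n := 1) (by simpa using h7) (by simpa using h6)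
  have e3 : n ^ j = n ^ (j % 3) := by
    conv_lhs => rw [← Nat.div_add_mod j 3, pow_add, pow_mul, hn3, one_pow, one_mul]
  rw [e3]
  obtain h0 | h0 | h0 : j % 3 = 0 ∨ j % 3 = 1 ∨ j % 3 = 2 := by omega
  all_goals rw [h0]
  · exact Or.inl (by rw [pow_zero, mul_one]; exact hh)
  · right
    calc (h * n ^ 1) ^ 3 = h * (n * h * n⁻¹) * (n * (n * h * n⁻¹) * n⁻¹) * n ^ 3 := by
          simp only [pow_succ, pow_zero, one_mul]; group
      _ = 1 := by rw [h2, hn3, one_mul]
  · right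
    rw [pow_two]
    calc (h * (n * n)) ^ 3
        = h * (n * (n * h * n⁻¹) * n⁻¹) * (n ^ 3 * (n * h * n⁻¹) * (n ^ 3)⁻¹) * (n ^ 3 * n ^ 3) := by
          simp [pow_three, mul_assoc]
      _ = h * ((n * (n * h * n⁻¹) * n⁻¹) * (n * h * n⁻¹)) := by rw [hn3]; group
      _ = 1 := by rw [H_commute hH3 hH2, ← mul_assoc, h2]

end basics

/-! ### the classification -/

section main

variable {F : Type u} [Field F] [Fintype F] {p : ℕ} [Fact p.Prime] [CharP F p]

theorem exists_modulus_extension (M : ℕ) (hM : (Fintype.card F).Coprime M) (hM1 : 1 < M) :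
    ∃ (K : Type) (_ : Field K) (_ : Fintype K) (_ : F →+* K), Fintype.card K % M = 1 := by
  obtain ⟨K, _, _, i, hK⟩ := exists_extension F M.totient (Nat.totient_pos.2 (by omega)).ne'
  refine ⟨K, inferInstance, inferInstance, i, ?_⟩
  rw [hK]
  have := Nat.ModEq.pow_totient hM
  rw [Nat.ModEq, Nat.mod_eq_of_lt hM1] at this
  exact this

theorem coprime_card {r : ℕ} (hr : r.Prime) (hrp : r ≠ p) : (Fintype.card F).Coprime r := by
  obtain ⟨a, -, e⟩ := card_eq_char_pow (F := F) (p := p)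
  rw [e]
  exact Nat.Coprime.pow_left _ ((Nat.coprime_primes Fact.out hr).2 (Ne.symm hrp))

/-- An element of prime power order other than three is conjugate into a split torus. -/
theorem exists_torus_conj {t : Grp F} {r k : ℕ} (hr : r.Prime) (hrp : r ≠ p) (ht : orderOf t = r ^ k)
    (hrk : (r = 2 ∧ k = 1) ∨ (5 ≤ r ∧ k = 1) ∨ (r = 3 ∧ k = 2)) :
    ∃ (K : Type) (_ : Field K) (_ : Fintype K) (i : F →+* K) (y : Grp K),
      y * gmap i t * y⁻¹ ∈ (R K).H := by
  have htpow : t ^ r ^ k = 1 := ht ▸ pow_orderOf_eq_one t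
  rcases hrk with ⟨rfl, rfl⟩ | ⟨h5, rfl⟩ | ⟨rfl, rfl⟩
  · obtain ⟨K, _, _, i, hK⟩ := exists_modulus_extension (F := F) 4
      (by simpa using (coprime_card (F := F) hr hrp).pow_right 2) (by norm_num)
    haveI : CharP K p := charP_of_injective_ringHom i.injective p
    obtain ⟨L, _, _, j, y, hy⟩ := conj_H_two (p := p) (Ne.symm hrp) hK (g := gmap i t)
      (by rw [← map_pow]; simp only [pow_one] at htpow; rw [htpow, map_one])
    exact ⟨L, inferInstance, inferInstance, j.comp i, y, by rw [← gmap_comp]; exact hy⟩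
  · obtain ⟨K, _, _, i, hK⟩ := exists_modulus_extension (F := F) r (coprime_card hr hrp) hr.one_lt
    haveI := Fact.mk hr
    have hQ : (Fintype.card K : ZMod r) = 1 := by
      rw [← ZMod.natCast_mod, hK, Nat.cast_one]
    obtain ⟨y, hy⟩ := conj_H_of_prime hr h5 hQ (g := gmap i t)
      (by rw [← map_pow]; simp only [pow_one] at htpow; rw [htpow, map_one])
    exact ⟨K, inferInstance, inferInstance, i, y, hy⟩
  · obtain ⟨K, _, _, i, hK⟩ := exists_modulus_extension (F := F) 9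
      (by simpa using (coprime_card (F := F) hr hrp).pow_right 2) (by norm_num)
    have h9 : gmap i t ^ 9 = 1 := by rw [← map_pow]; norm_num at htpow; rw [htpow, map_one]
    obtain ⟨y, hy⟩ := conj_K3 hK h9
    rcases cube_of_K3 hy with hH | h3
    · exact ⟨K, inferInstance, inferInstance, i, y, hH⟩
    · exfalso
      rw [conj_pow, mul_inv_eq_one, mul_eq_left, ← map_pow,
        map_eq_one_iff _ (gmap_injective i)] at h3
      have := orderOf_dvd_of_pow_eq_one h3
      rw [ht] at this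
      norm_num at this

/-- The order of an element with a power of prime power order other than three. -/
theorem order_cases_semisimple {g : Grp F} {r k : ℕ} (hr : r.Prime) (hrp : r ≠ p)
    (hrk : (r = 2 ∧ k = 1) ∨ (5 ≤ r ∧ k = 1) ∨ (r = 3 ∧ k = 2)) (hdvd : r ^ k ∣ orderOf g) :
    (∃ N ∈ [Fintype.card F - 1, Fintype.card F + 1, Fintype.card F ^ 2 - 1,
      Fintype.card F ^ 2 + Fintype.card F + 1, Fintype.card F ^ 2 - Fintype.card F + 1], g ^ N = 1) ∨
    ∃ N ∈ [Fintype.card F - 1, Fintype.card F + 1], g ^ (p * N) = 1 := by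
  set t := g ^ (orderOf g / r ^ k) with htdef
  have hd0 : orderOf g / r ^ k ≠ 0 :=
    (Nat.div_pos (Nat.le_of_dvd (orderOf_pos g) hdvd) (pow_pos hr.pos k)).ne'
  have ht : orderOf t = r ^ k := by
    rw [htdef, orderOf_pow' g hd0, Nat.gcd_eq_right (Nat.div_dvd_of_dvd hdvd),
      Nat.div_div_self hdvd (orderOf_pos g).ne']
  obtain ⟨K, _, _, i, y, hy⟩ := exists_torus_conj (p := p) hr hrp ht hrk
  haveI : CharP K p := charP_of_injective_ringHom i.injective p
  set g₁ := y * gmap i g * y⁻¹ with hg₁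
  set t₁ := y * gmap i t * y⁻¹ with ht₁
  have hcomm : t₁ * g₁ = g₁ * t₁ := by
    have hc : Commute (gmap i t) (gmap i g) := ((Commute.refl g).pow_left _).map (gmap i)
    rw [hg₁, ht₁]
    calc y * gmap i t * y⁻¹ * (y * gmap i g * y⁻¹) = y * (gmap i t * gmap i g) * y⁻¹ := by group
      _ = _ := by rw [hc.eq]; group
  have ht₁o : orderOf t₁ = r ^ k := by
    rw [ht₁, ← ht, show y * gmap i t * y⁻¹ = MulAut.conj y (gmap i t) from rfl,
      show orderOf (MulAut.conj y (gmap i t)) = orderOf (gmap i t) from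
        orderOf_injective (MulAut.conj y).toMonoidHom (MulAut.conj y).injective _,
      orderOf_injective _ (gmap_injective i)]
  have h3 : t₁ ^ 3 ≠ 1 := by
    intro h
    have := orderOf_dvd_of_pow_eq_one h
    rw [ht₁o] at this
    rcases hrk with ⟨rfl, rfl⟩ | ⟨h5, rfl⟩ | ⟨rfl, rfl⟩
    · norm_num at this
    · rw [pow_one] at this
      have := Nat.le_of_dvd (by norm_num) this
      omega
    · norm_num at this
  have hrK : ¬ r ∣ Fintype.card K := fun hd =>
    hr.one_lt.ne' (Nat.dvd_one.1 (((coprime_card (F := K) hr hrp).gcd_eq_one) ▸ Nat.dvd_gcd hd dvd_rfl))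
  obtain ⟨P, hP, hgP⟩ := centralizer_le_M2 hy hr (ht₁o ▸ pow_orderOf_eq_one t₁) hrK h3 hcomm
  obtain ⟨L, _, _, j, -, hroot⟩ := exists_quadratic K
  haveI : CharP L p := charP_of_injective_ringHom j.injective p
  obtain ⟨z, h, hh, c, d, hc, hd, e⟩ := triangular_M2 j hroot hP hgP
  set ι := j.comp i
  set Y := z * gmap j y with hY
  set u := X P.1 c * X P.2 d with hu
  have eg : Y * gmap ι g * Y⁻¹ = h * u := by
    rw [hu, ← mul_assoc h, ← e, hg₁, hY, ← gmap_comp, map_mul, map_mul, map_inv]; group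
  have hcu : Commute h u := (commute_unip hh hc).mul_right (commute_unip hh hd)
  have hXc : Commute (X P.1 c : Grp L) (X P.2 d) := X_comm hP (by simp) (by simp) c d
  have hup : u ^ p = 1 := by rw [hu, hXc.mul_pow, X_pow_char, X_pow_char, one_mul]
  -- Frobenius
  obtain ⟨a, ha, hqa⟩ := card_eq_char_pow (F := F) (p := p)
  set q := Fintype.card F with hq
  let σ : L →+* L := iterateFrobenius L p a
  have hσ : ∀ x, σ x = x ^ q := fun x => by rw [hqa]; rfl
  set τ := gmap (F := L) σ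
  have hτι : τ (gmap ι g) = gmap ι g := Model.mat_inj (Matrix.ext fun b b' => by
    show σ (ι _) = ι _
    rw [hσ, ← map_pow, hq, FiniteField.pow_card])
  have hτh : τ h = h ^ q := gmap_pow σ hσ hh
  set n := τ Y * Y⁻¹ with hn
  have hconj : τ h * n = n * h := by
    have h1 : (h * u) ^ Fintype.card L = h := U_pow_card (p := p) ⟨1, by rw [pow_one]; exact hup⟩ hh hcu hup
    have h2 : τ (h * u) = n * (h * u) * n⁻¹ := by
      rw [← eg, map_mul, map_mul, map_inv, hτι, hn]; group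
    have h3 : τ h = n * h * n⁻¹ := by
      conv_lhs => rw [← h1]
      rw [map_pow, h2, conj_pow, h1]
    rw [h3]; group
  obtain ⟨b₁, hb₁, w, -, b₂, hb₂, hnw⟩ := exists_bruhat n
  have hwh := conj_key w hh (pow_mem hh q) hb₁ hb₂ (by rw [← hnw, ← hτh, hconj])
  set A := (psi2 ⟨h, hh⟩).1
  set B := (psi2 ⟨h, hh⟩).2
  have hwrel : ∀ s, ev2 A B (cfv (wact w s)) ^ q = ev2 A B (cfv s) := by
    intro s
    refine Units.ext ?_
    have h1 := chi_conj w hh s
    rw [hwh, chi_eq ⟨h, hh⟩ s, chi_eq ⟨h ^ q, pow_mem hh q⟩] at h1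
    rw [← h1, show (⟨h ^ q, pow_mem hh q⟩ : ↥(R L).H) = ⟨h, hh⟩ ^ q from rfl, map_pow]
    show ((ev2 A B (cfv (wact w s)) ^ q : Lˣ) : L) = ((ev2 (A ^ q) (B ^ q) (cfv (wact w s)) : Lˣ) : L)
    congr 1
    rw [ev2, ev2, mul_pow, ← zpow_natCast (A ^ _), ← zpow_natCast (B ^ _), ← zpow_natCast A q,
      ← zpow_natCast B q, ← _root_.zpow_mul, ← _root_.zpow_mul, ← _root_.zpow_mul, ← _root_.zpow_mul,
      mul_comm (q : ℤ), mul_comm (q : ℤ)]
  have hq1 : 1 ≤ q := hq ▸ Fintype.card_pos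
  have hback : ∀ N, (h * u) ^ N = 1 → g ^ N = 1 := by
    intro N hN
    rw [← eg, conj_pow, mul_inv_eq_one, mul_eq_left, ← map_pow] at hN
    exact (map_eq_one_iff _ (gmap_injective ι)).1 hN
  by_cases hu1 : u = 1
  · obtain ⟨N, hN, hA, hB⟩ := frob_annihilator hq1 w hwrel
    refine Or.inl ⟨N, hN, hback N ?_⟩
    rw [hu1, mul_one]
    exact pow_eq_one_of hh ⟨hA, hB⟩
  · obtain ⟨s, hs, hk⟩ : ∃ s ∈ posR, ev2 A B (cfv s) = 1 := by
      by_cases hc0 : c = 0
      · have hd0 : d ≠ 0 := fun h0 => hu1 (by rw [hu, hc0, h0, X_zero, X_zero, one_mul])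
        refine ⟨P.2, (pair_pos P hP).2, Units.ext ?_⟩
        rw [← chi_eq ⟨h, hh⟩, hd.resolve_left hd0, Units.val_one]
      · refine ⟨P.1, (pair_pos P hP).1, Units.ext ?_⟩
        rw [← chi_eq ⟨h, hh⟩, hc.resolve_left hc0, Units.val_one]
    have hinj : ∀ x : Lˣ, x ^ q = 1 → x = 1 := fun x hx => Units.ext (σ.injective (by
      rw [Units.val_one, map_one, hσ, ← Units.val_pow_eq_pow_val, hx, Units.val_one]))
    obtain ⟨N, hN, hA, hB⟩ := frob_killed hq1 hinj w hwrel hs hk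
    have hNh : h ^ N = 1 := pow_eq_one_of hh ⟨hA, hB⟩
    have fin : ∀ M ∈ [q - 1, q + 1], h ^ M = 1 →
        ∃ N ∈ [q - 1, q + 1], g ^ (p * N) = 1 := fun M hM h' => ⟨M, hM, hback _ (by
      rw [hcu.mul_pow, pow_mul u, hup, one_pow, mul_comm p, pow_mul, h', one_pow, one_mul])⟩
    right
    simp only [List.mem_cons, List.not_mem_nil, or_false] at hN
    rcases hN with rfl | rfl | rfl | rfl
    · exact fin _ (by simp) hNh
    · exact fin _ (by simp) hNh
    all_goals
      obtain ⟨aL, haL, eL⟩ := card_eq_char_pow (F := L) (p := p)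
      obtain ⟨aL', rfl⟩ : ∃ b, aL = b + 1 := ⟨aL - 1, by omega⟩
    · by_cases hp2 : p = 2
      · refine fin (q - 1) (by simp) ?_
        have h1 := pow_card_self hh
        rw [eL, hp2, pow_succ', pow_mul, hNh, one_pow] at h1
        rw [← h1, one_pow]
      · have hq2 : q % 2 = 1 := by
          rw [hqa, Nat.pow_mod, ((Fact.out : p.Prime).eq_two_or_odd).resolve_left hp2, one_pow, Nat.one_mod]
        exact fin (q - 1) (by simp) (orderOf_dvd_iff_pow_eq_one.1
          ((orderOf_dvd_of_pow_eq_one hNh).trans (by omega)))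
    · by_cases hp3 : p = 3
      · refine fin (q - 1) (by simp) ?_
        have h1 := pow_card_self hh
        rw [eL, hp3, pow_succ', pow_mul, hNh, one_pow] at h1
        rw [← h1, one_pow]
      · have hq3 : ¬ 3 ∣ q := by
          rw [hqa]
          exact fun hd => hp3 ((Nat.prime_dvd_prime_iff_eq Nat.prime_three Fact.out).1
            (Nat.prime_three.dvd_of_dvd_pow hd)).symm
        rcases (show 3 ∣ q - 1 ∨ 3 ∣ q + 1 by omega) with h3 | h3
        · exact fin (q - 1) (by simp) (orderOf_dvd_iff_pow_eq_one.1 ((orderOf_dvd_of_pow_eq_one hNh).trans h3))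
        · exact fin (q + 1) (by simp) (orderOf_dvd_iff_pow_eq_one.1 ((orderOf_dvd_of_pow_eq_one hNh).trans h3))

theorem index_U : ∃ N, ¬ p ∣ N ∧ Nat.card (Grp F) = Nat.card ↥(R F).U * N := by
  obtain ⟨a, ha, e⟩ := card_eq_char_pow (F := F) (p := p)
  refine ⟨(Fintype.card F ^ 2 - 1) * (Fintype.card F ^ 6 - 1), ?_, by rw [card_group, card_U]; ring⟩
  have key : ∀ j : ℕ, 0 < j → ¬ p ∣ Fintype.card F ^ j - 1 := by
    intro j hj hd
    have h1 : p ∣ Fintype.card F ^ j := (e ▸ dvd_pow_self p ha.ne').trans (dvd_pow_self _ hj.ne')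
    have h2 := Nat.dvd_sub h1 hd
    rw [Nat.sub_sub_self (Nat.one_le_pow _ _ Fintype.card_pos), Nat.dvd_one] at h2
    exact (Fact.out : p.Prime).one_lt.ne' h2
  exact fun hd => ((Fact.out : p.Prime).dvd_mul.1 hd).elim (key 2 (by norm_num)) (key 6 (by norm_num))

theorem order_p_element {g : Grp F} {j : ℕ} (hg : g ^ p ^ j = 1) :
    (7 ≤ p → g ^ p = 1) ∧ (3 ≤ p → g ^ (p ^ 2) = 1) ∧ (p = 2 → g ^ 8 = 1) := by
  obtain ⟨N, hN, e⟩ := index_U (F := F) (p := p)
  obtain ⟨y, hy⟩ := exists_conj_mem _ (Fact.out : p.Prime) e hN hg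
  have key : ∀ m : ℕ, (y * g * y⁻¹) ^ m = 1 → g ^ m = 1 := fun m h => by
    rwa [conj_pow, mul_inv_eq_one, mul_eq_left] at h
  obtain ⟨h1, h2, h3⟩ := U_pow (Fact.out : p.Prime) hy
  exact ⟨fun h => key _ (h1 h), fun h => key _ (h2 h), fun h => key _ (h3 h)⟩

/-- An element of order three commuting with a unipotent element bounds the order of the latter. -/
theorem unipotent_of_commute_three (hp3 : p ≠ 3) {s u : Grp F} (hs : orderOf s = 3) {j : ℕ}
    (hu : u ^ p ^ j = 1) (e : s * u = u * s) : u ^ (if p = 2 then 4 else p) = 1 := by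
  obtain ⟨N, hN, ecard⟩ := index_U (F := F) (p := p)
  obtain ⟨y, hy⟩ := exists_conj_mem _ (Fact.out : p.Prime) ecard hN hu
  have key : ∀ m : ℕ, (y * u * y⁻¹) ^ m = 1 → u ^ m = 1 := fun m h => by
    rwa [conj_pow, mul_inv_eq_one, mul_eq_left] at h
  apply key
  by_cases hreg : ∀ i, y * u * y⁻¹ ∉ (R F).Ui i
  swap
  · push Not at hreg
    obtain ⟨i, hi⟩ := hreg
    exact Ui_pow (Fact.out : p.Prime) hp3 i hi
  set s₁ := y * s * y⁻¹ with hs₁
  set u₁ := y * u * y⁻¹ with hu₁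
  have e1 : s₁ * u₁ = u₁ * s₁ := by
    rw [hs₁, hu₁]
    calc y * s * y⁻¹ * (y * u * y⁻¹) = y * (s * u) * y⁻¹ := by group
      _ = _ := by rw [e]; group
  have hsB : s₁ ∈ (R F).B := mem_B_of_commute hy hreg e1
  have hs3 : s₁ ^ 3 = 1 := by
    rw [hs₁, conj_pow, ← hs, pow_orderOf_eq_one, mul_one, mul_inv_cancel]
  have hcard : Nat.card ↥(R F).B = Nat.card ↥((R F).H.subgroupOf (R F).B) * Nat.card ↥(R F).U := by
    rw [Nat.card_congr (Subgroup.subgroupOfEquivOfLe (R F).H_le_B).toEquiv,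
      (TypeG2.model.shapeR (relsOfCommGood uGoodG2.toCommGood F)).card_B, mul_comm]
  have h3U : ¬ 3 ∣ Nat.card ↥(R F).U := by
    rw [card_U]
    intro hd
    have h1 := Nat.prime_three.dvd_of_dvd_pow hd
    have h2 := coprime_card (F := F) (p := p) Nat.prime_three (Ne.symm hp3)
    exact absurd (Nat.eq_one_of_dvd_coprimes h2 h1 dvd_rfl) (by norm_num)
  obtain ⟨⟨b, hb⟩, hbH⟩ := exists_conj_mem ((R F).H.subgroupOf (R F).B) Nat.prime_three hcard h3U
    (k := 1) (g := (⟨s₁, hsB⟩ : ↥(R F).B)) (Subtype.ext (by simpa using hs3))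
  have hbH' : b * s₁ * b⁻¹ ∈ (R F).H := Subgroup.mem_subgroupOf.1 hbH
  have hne : b * s₁ * b⁻¹ ≠ 1 := by
    intro h
    rw [mul_inv_eq_one, mul_eq_left, hs₁, mul_inv_eq_one, mul_eq_left] at h
    rw [h, orderOf_one] at hs
    norm_num at hs
  have hu₂ : b * u₁ * b⁻¹ ∈ (R F).U := U_normal hb hy
  have hc2 : b * s₁ * b⁻¹ * (b * u₁ * b⁻¹) = b * u₁ * b⁻¹ * (b * s₁ * b⁻¹) := by
    calc b * s₁ * b⁻¹ * (b * u₁ * b⁻¹) = b * (s₁ * u₁) * b⁻¹ := by group
      _ = _ := by rw [e1]; group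
  obtain ⟨i, hi⟩ := killedU_le_Ui hbH' hne
  have h1 := Ui_normal (inv_mem hb) (hi (mem_killedU hbH' hu₂ hc2))
  rw [show b⁻¹ * (b * u₁ * b⁻¹) * b⁻¹⁻¹ = u₁ by group] at h1
  exact absurd h1 (hreg i)

/-- The possible element orders. -/
theorem order_cases (g : Grp F) :
    (∃ N ∈ [Fintype.card F ^ 2 - 1, Fintype.card F ^ 2 + Fintype.card F + 1,
      Fintype.card F ^ 2 - Fintype.card F + 1, p * (Fintype.card F - 1), p * (Fintype.card F + 1)],
        orderOf g ∣ N) ∨
    ((p = 3 ∨ p = 5) ∧ orderOf g ∣ p ^ 2) ∨ (p = 2 ∧ (orderOf g ∣ 8 ∨ orderOf g ∣ 12)) := by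
  have hp : p.Prime := Fact.out
  by_cases hA : ∃ r k, r.Prime ∧ r ≠ p ∧
      ((r = 2 ∧ k = 1) ∨ (5 ≤ r ∧ k = 1) ∨ (r = 3 ∧ k = 2)) ∧ r ^ k ∣ orderOf g
  · obtain ⟨r, k, hr, hrp, hrk, hd⟩ := hA
    left
    rcases order_cases_semisimple (p := p) hr hrp hrk hd with ⟨N, hN, h⟩ | ⟨N, hN, h⟩
    · have h1 := orderOf_dvd_of_pow_eq_one h
      simp only [List.mem_cons, List.not_mem_nil, or_false] at hN
      rcases hN with rfl | rfl | rfl | rfl | rfl
      · exact ⟨_, by simp, h1.trans (dvd_mul_left _ p)⟩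
      · exact ⟨p * (Fintype.card F + 1), by simp, h1.trans (dvd_mul_left _ p)⟩
      · exact ⟨_, by simp, h1⟩
      · exact ⟨_, by simp, h1⟩
      · exact ⟨_, by simp, h1⟩
    · have h1 := orderOf_dvd_of_pow_eq_one h
      simp only [List.mem_cons, List.not_mem_nil, or_false] at hN
      rcases hN with rfl | rfl <;> exact ⟨_, by simp, h1⟩
  push Not at hA
  set m := orderOf g with hm
  have hm0 : m ≠ 0 := (orderOf_pos g).ne'
  obtain ⟨j, m', hm', hmeq⟩ : ∃ j m', ¬ p ∣ m' ∧ m = p ^ j * m' :=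
    ⟨_, _, Nat.not_dvd_ordCompl hp hm0, (Nat.ordProj_mul_ordCompl_eq_self m p).symm⟩
  have hm3 : m' = 1 ∨ (m' = 3 ∧ p ≠ 3) := by
    have hall : ∀ r : ℕ, r.Prime → r ∣ m' → r = 3 := by
      intro r hr hrd
      by_contra hr3
      have hrp : r ≠ p := fun h => hm' (h ▸ hrd)
      have hcase : r = 2 ∨ 5 ≤ r := by
        by_contra hc
        have := hr.two_le
        have : r < 5 := by omega
        interval_cases r <;> first | omega | norm_num at hr
      refine hA r 1 hr hrp ?_ (by rw [pow_one, hmeq]; exact dvd_mul_of_dvd_right hrd _)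
      rcases hcase with h | h
      · exact Or.inl ⟨h, rfl⟩
      · exact Or.inr (Or.inl ⟨h, rfl⟩)
    by_cases h1 : m' = 1
    · exact Or.inl h1
    right
    have h3d : 3 ∣ m' := by
      obtain ⟨r, hr, hrd⟩ := Nat.exists_prime_and_dvd h1
      exact hall r hr hrd ▸ hrd
    have hp3 : p ≠ 3 := fun h => hm' (h ▸ h3d)
    obtain ⟨c, hc⟩ := h3d
    refine ⟨?_, hp3⟩
    by_cases hc1 : c = 1
    · rw [hc, hc1]
    exfalso
    obtain ⟨r, hr, hrd⟩ := Nat.exists_prime_and_dvd hc1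
    have := hall r hr (hc ▸ dvd_mul_of_dvd_right hrd 3)
    subst this
    refine hA 3 2 Nat.prime_three (Ne.symm hp3) (Or.inr (Or.inr ⟨rfl, rfl⟩)) ?_
    rw [hmeq, hc, pow_two]
    exact dvd_mul_of_dvd_right (mul_dvd_mul_left 3 hrd) _
  have hcases : p = 2 ∨ p = 3 ∨ p = 5 ∨ 7 ≤ p := by
    by_contra hc
    have := hp.two_le
    have : p < 7 := by omega
    interval_cases p <;> first | omega | norm_num at hp
  rcases hm3 with h1 | ⟨h1, hp3⟩
  · subst h1
    rw [mul_one] at hmeq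
    obtain ⟨k1, k2, k3⟩ := order_p_element (p := p) (g := g) (j := j) (hmeq ▸ hm ▸ pow_orderOf_eq_one g)
    rcases hcases with h | h | h | h
    · exact Or.inr (Or.inr ⟨h, Or.inl (orderOf_dvd_of_pow_eq_one (k3 h))⟩)
    · exact Or.inr (Or.inl ⟨Or.inl h, orderOf_dvd_of_pow_eq_one (k2 (by omega))⟩)
    · exact Or.inr (Or.inl ⟨Or.inr h, orderOf_dvd_of_pow_eq_one (k2 (by omega))⟩)
    · exact Or.inl ⟨p * (Fintype.card F + 1), by simp,
        (orderOf_dvd_of_pow_eq_one (k1 h)).trans (dvd_mul_right p _)⟩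
  · subst h1
    have hu : (g ^ 3) ^ p ^ j = 1 := by
      rw [← pow_mul, mul_comm, ← hmeq, hm, pow_orderOf_eq_one]
    have hs : orderOf (g ^ p ^ j) = 3 := by
      rw [orderOf_pow' g (pow_ne_zero j hp.ne_zero), ← hm, hmeq, Nat.gcd_eq_right (dvd_mul_right _ _),
        Nat.mul_div_cancel_left _ (pow_pos hp.pos j)]
    have h4 := unipotent_of_commute_three hp3 hs hu (Commute.pow_pow (Commute.refl g) _ _)
    rw [← pow_mul] at h4
    have h5 := orderOf_dvd_of_pow_eq_one h4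
    by_cases h2 : p = 2
    · exact Or.inr (Or.inr ⟨h2, Or.inr (by rw [if_pos h2] at h5; exact h5)⟩)
    · rw [if_neg h2, mul_comm] at h5
      have h3q : ¬ 3 ∣ Fintype.card F := fun hd => absurd
        (Nat.eq_one_of_dvd_coprimes (coprime_card (F := F) (p := p) Nat.prime_three (Ne.symm hp3)) hd dvd_rfl)
        (by norm_num)
      rcases (show 3 ∣ Fintype.card F - 1 ∨ 3 ∣ Fintype.card F + 1 by omega) with h | h
      · exact Or.inl ⟨_, by simp, h5.trans (mul_dvd_mul_left p h)⟩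
      · exact Or.inl ⟨p * (Fintype.card F + 1), by simp, h5.trans (mul_dvd_mul_left p h)⟩

end main

end Cfsg.Agent.G2Orders80
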