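import Cfsg.Agent.G2Orders80.Witness

/-!
Arithmetic on the candidate maximal element orders of type G2.
-/

set_option autoImplicit false

namespace Cfsg.Agent.G2Orders80

/-- the candidates for the maximal element orders in odd characteristic -/
def cands (p q : ℕ) : Set ℕ :=
  {p * (q + 1), p * (q - 1), q ^ 2 - 1, q ^ 2 + q + 1, q ^ 2 - q + 1} ∪
    (if p = 3 ∨ p = 5 then ({p ^ 2} : Set ℕ) else ∅)

theorem cands_antichain {p q : ℕ} (hp : p.Prime) (hpq : p ∣ q) (hq : 5 ≤ q) :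
    ∀ x ∈ cands p q, ∀ y ∈ cands p q, x ∣ y → x = y := by
  have hp1 : ¬ p ∣ 1 := hp.not_dvd_one
  have hqq : q * 5 ≤ q ^ 2 := by rw [pow_two]; exact Nat.mul_le_mul_left _ hq
  have hq2 : p ∣ q ^ 2 := dvd_pow hpq two_ne_zero
  have n1 : ¬ p ∣ q + 1 := fun h => hp1 ((Nat.dvd_add_right hpq).1 h)
  have n2 : ¬ p ∣ q - 1 := fun h => hp1 (by
    have := Nat.dvd_sub hpq h; rwa [Nat.sub_sub_self (by omega : 1 ≤ q)] at this)
  have n3 : ¬ p ∣ q ^ 2 - 1 := fun h => hp1 (by
    have := Nat.dvd_sub hq2 h; rwa [Nat.sub_sub_self (by omega : 1 ≤ q ^ 2)] at this)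
  have n4 : ¬ p ∣ q ^ 2 + q + 1 := fun h => hp1 ((Nat.dvd_add_right (dvd_add hq2 hpq)).1 h)
  have n5 : ¬ p ∣ q ^ 2 - q + 1 := fun h => hp1 ((Nat.dvd_add_right (Nat.dvd_sub hq2 hpq)).1 h)
  -- a divisor prime to `p` of `p * m` divides `m`
  have cop : ∀ {n m : ℕ}, ¬ p ∣ n → n ∣ p * m → n ∣ m := fun hn h =>
    ((hp.coprime_iff_not_dvd.2 hn).symm).dvd_of_dvd_mul_left h
  have sz : ∀ {n m : ℕ}, 0 < m → n ∣ m → n ≤ m := fun hm h => Nat.le_of_dvd hm h
  have a1 : ¬ q ^ 2 - 1 ∣ q ^ 2 + q + 1 := fun h => by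
    have h1 := Nat.dvd_sub h dvd_rfl
    have := sz (by omega) h1
    omega
  have a2 : ¬ q ^ 2 - q + 1 ∣ q ^ 2 - 1 := fun h => by
    have h1 := Nat.dvd_sub h dvd_rfl
    have := sz (by omega) h1
    omega
  have a3 : ¬ q ^ 2 - q + 1 ∣ q ^ 2 + q + 1 := fun h => by
    have h1 := Nat.dvd_sub h dvd_rfl
    have := sz (by omega) h1
    omega
  have b1 : ¬ q - 1 ∣ q + 1 := fun h => by
    have h1 := Nat.dvd_sub h dvd_rfl
    have := sz (by omega) h1
    omega
  have b2 : ¬ q + 1 ∣ q - 1 := fun h => by have := sz (by omega) h; omega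
  have b3 : ∀ {n m : ℕ}, q + 2 ≤ n → ¬ p ∣ n → m ≤ q + 1 → 0 < m → ¬ n ∣ p * m := fun hn hnp hm hm0 h => by
    have := sz hm0 (cop hnp h); omega
  have b4 : ∀ {n : ℕ}, q - 1 ≤ n → ¬ p ∣ n → ¬ n ∣ p ^ 2 := fun hn hnp h => by
    rw [pow_two] at h
    have h1 := cop hnp h
    have h2 := (Nat.dvd_prime hp).1 h1
    rcases h2 with h2 | h2
    · omega
    · exact hnp (h2 ▸ dvd_rfl)
  intro x hx y hy hd
  have mem : ∀ {z : ℕ}, z ∈ cands p q → z = p * (q + 1) ∨ z = p * (q - 1) ∨ z = q ^ 2 - 1 ∨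
      z = q ^ 2 + q + 1 ∨ z = q ^ 2 - q + 1 ∨ z = p ^ 2 := by
    rintro z (hz | hz)
    · rcases hz with hz | hz | hz | hz | hz
      exacts [Or.inl hz, Or.inr (Or.inl hz), Or.inr (Or.inr (Or.inl hz)),
        Or.inr (Or.inr (Or.inr (Or.inl hz))), Or.inr (Or.inr (Or.inr (Or.inr (Or.inl hz))))]
    · split_ifs at hz
      · exact Or.inr (Or.inr (Or.inr (Or.inr (Or.inr hz))))
      · exact hz.elim
  have hx' := mem hx
  have hy' := mem hy
  have c1 : ¬ q + 1 ∣ p := fun h => by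
    rcases (Nat.dvd_prime hp).1 h with h | h
    · omega
    · exact n1 (h ▸ dvd_rfl)
  have c2 : ¬ q - 1 ∣ p := fun h => by
    rcases (Nat.dvd_prime hp).1 h with h | h
    · omega
    · exact n2 (h ▸ dvd_rfl)
  have pm : ∀ {n m : ℕ}, p * n ∣ p * m → n ∣ m := fun h => (Nat.mul_dvd_mul_iff_left hp.pos).1 h
  have pd : ∀ {n m : ℕ}, p * n ∣ m → p ∣ m := fun h => (dvd_mul_right p _).trans h
  have pd2 : ∀ {m : ℕ}, p ^ 2 ∣ m → p ∣ m := fun h => (dvd_pow_self p two_ne_zero).trans h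
  rcases hx' with rfl | rfl | rfl | rfl | rfl | rfl
  · rcases hy' with rfl | rfl | rfl | rfl | rfl | rfl
    · rfl
    · exact absurd (pm hd) b2
    · exact absurd (pd hd) n3
    · exact absurd (pd hd) n4
    · exact absurd (pd hd) n5
    · rw [pow_two p] at hd; exact absurd (pm hd) c1
  · rcases hy' with rfl | rfl | rfl | rfl | rfl | rfl
    · exact absurd (pm hd) b1
    · rfl
    · exact absurd (pd hd) n3
    · exact absurd (pd hd) n4
    · exact absurd (pd hd) n5
    · rw [pow_two p] at hd; exact absurd (pm hd) c2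
  · rcases hy' with rfl | rfl | rfl | rfl | rfl | rfl
    · exact absurd hd (b3 (by omega) n3 le_rfl (by omega))
    · exact absurd hd (b3 (by omega) n3 (by omega) (by omega))
    · rfl
    · exact absurd hd a1
    · have := sz (by omega) hd; omega
    · exact absurd hd (b4 (by omega) n3)
  · rcases hy' with rfl | rfl | rfl | rfl | rfl | rfl
    · exact absurd hd (b3 (by omega) n4 le_rfl (by omega))
    · exact absurd hd (b3 (by omega) n4 (by omega) (by omega))
    · have := sz (by omega) hd; omega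
    · rfl
    · have := sz (by omega) hd; omega
    · exact absurd hd (b4 (by omega) n4)
  · rcases hy' with rfl | rfl | rfl | rfl | rfl | rfl
    · exact absurd hd (b3 (by omega) n5 le_rfl (by omega))
    · exact absurd hd (b3 (by omega) n5 (by omega) (by omega))
    · exact absurd hd a2
    · exact absurd hd a3
    · rfl
    · exact absurd hd (b4 (by omega) n5)
  · rcases hy' with rfl | rfl | rfl | rfl | rfl | rfl
    · rw [pow_two p] at hd; exact absurd (pm hd) n1
    · rw [pow_two p] at hd; exact absurd (pm hd) n2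
    · exact absurd (pd2 hd) n3
    · exact absurd (pd2 hd) n4
    · exact absurd (pd2 hd) n5
    · rfl

end Cfsg.Agent.G2Orders80
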